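import Cfsg.Agent.Lib.Suz.Struct

/-! The Suzuki group: traces, two-elements, involutions, centralisers in the Borel subgroup. -/

set_option autoImplicit false

namespace Cfsg.Agent.Suz

open Matrix MulAction

variable {F : Type*} [Field F] {m : ℕ}

/-- The trace of an element. -/
def tr (g : G F m) : F := (mat g).trace

theorem tr_mul_comm (g k : G F m) : tr (g * k) = tr (k * g) := by
  simp only [tr, mat_mul]; exact trace_mul_comm _ _

theorem tr_conj (x g : G F m) : tr (x * g * x⁻¹) = tr g := by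
  rw [tr_mul_comm, inv_mul_cancel_left]

theorem tr_conj' (x g : G F m) : tr (x⁻¹ * g * x) = tr g := by
  rw [tr_mul_comm, mul_inv_cancel_left]

theorem tr_eq_of_isConj {g k : G F m} (hc : IsConj g k) : tr g = tr k := by
  obtain ⟨x, rfl⟩ := isConj_iff.mp hc
  exact (tr_conj x g).symm

variable [h : SuzF F m]

theorem mat_symp (g : G F m) : (mat g)ᵀ * wM F * mat g = wM F := by
  induction g using induction_gen with
  | hU a b =>
    rw [mat_u]
    ext i j; fin_cases i <;> fin_cases j <;>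
      simp only [Matrix.mul_apply, Fin.sum_univ_four, transpose_apply] <;> simp [uM, wM, ff] <;>
      grind
  | hH μ =>
    rw [mat_hh]
    have h1 := μ.ne_zero
    have h2 := φ_ne_zero h1
    ext i j; fin_cases i <;> fin_cases j <;>
      simp only [Matrix.mul_apply, Fin.sum_univ_four, transpose_apply] <;> simp [hM, wM] <;>
      field_simp
  | hw =>
    rw [mat_w]
    ext i j; fin_cases i <;> fin_cases j <;>
      simp only [Matrix.mul_apply, Fin.sum_univ_four, transpose_apply] <;> simp [wM]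
  | hmul x y hx hy =>
    rw [mat_mul, transpose_mul]
    calc (mat y)ᵀ * (mat x)ᵀ * wM F * (mat x * mat y)
        = (mat y)ᵀ * ((mat x)ᵀ * wM F * mat x) * mat y := by simp only [Matrix.mul_assoc]
      _ = wM F := by rw [hx, hy]

include h in
theorem wM_mul_wM : wM F * wM F = 1 := by
  rw [← mat_w (m := m), ← mat_mul, w_mul_w, mat_one]

theorem mat_inv_eq (g : G F m) : mat g⁻¹ = wM F * (mat g)ᵀ * wM F := by
  have h1 : wM F * (mat g)ᵀ * wM F * mat g = 1 := by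
    rw [Matrix.mul_assoc, Matrix.mul_assoc, ← Matrix.mul_assoc (mat g)ᵀ, mat_symp, wM_mul_wM]
  calc mat g⁻¹ = (wM F * (mat g)ᵀ * wM F * mat g) * mat g⁻¹ := by rw [h1, Matrix.one_mul]
    _ = _ := by rw [Matrix.mul_assoc _ (mat g), mat_mul_inv, Matrix.mul_one]

theorem tr_inv (g : G F m) : tr g⁻¹ = tr g := by
  rw [tr, mat_inv_eq, trace_mul_comm, ← Matrix.mul_assoc, wM_mul_wM, Matrix.one_mul,
    trace_transpose, tr]

@[simp] theorem tr_u (a b : F) : tr (u a b : G F m) = 0 := by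
  simp [tr, uM, trace, Fin.sum_univ_four]; grind

@[simp] theorem tr_one : tr (1 : G F m) = 0 := by rw [← u_zero_zero, tr_u]

theorem tr_hh (μ : Fˣ) :
    tr (hh μ : G F m) = φ (μ : F) * μ + φ (μ : F) + (φ (μ : F))⁻¹ + (φ (μ : F) * μ)⁻¹ := by
  simp [tr, hM, trace, Fin.sum_univ_four]

theorem tr_hh_ne_zero {μ : Fˣ} (hμ : μ ≠ 1) : tr (hh μ : G F m) ≠ 0 := by
  have h0 := μ.ne_zero
  have h0' := φ_ne_zero h0
  have h1 : (μ : F) ≠ 1 := fun h => hμ (Units.ext h)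
  have h2 : (μ : F) * θ (μ : F) ≠ 1 := fun h => h1 (nm_eq_one.mp h)
  have h1' : 1 + (μ : F) ≠ 0 := by grind
  have h2' : 1 + (μ : F) * θ (μ : F) ≠ 0 := by grind
  have : tr (hh μ : G F m) * (φ (μ : F) * μ) = (1 + μ) * (1 + (μ : F) * θ (μ : F)) := by
    rw [tr_hh, ← φ_sq]; field_simp; ring
  intro he
  rw [he, zero_mul] at this
  exact mul_ne_zero h1' h2' this.symm

theorem tr_u_w (a b : F) : tr (u a b * w : G F m) = ff a b + θ a := by
  simp only [tr, mat_mul, mat_u, mat_w, trace, diag, Matrix.mul_apply, Fin.sum_univ_four]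
  simp [uM, wM]

theorem tr_z_w (b : F) : tr (u 0 b * w : G F m) = θ b := by simp [tr_u_w]

theorem tr_pow_q (g : G F m) : tr (g ^ 2 ^ (2 * m + 1)) = tr g := by
  have := Fintype.ofFinite F
  have h1 := FiniteField.trace_pow_card (mat g)
  rw [← Nat.card_eq_fintype_card, card_F, pow_q] at h1
  rw [tr, mat_pow, h1, tr]

/-- The Cayley-Hamilton identity. -/
def CH (g : G F m) : Prop :=
  mat g ^ 4 + tr g • mat g ^ 3 + θ (tr g) • mat g ^ 2 + tr g • mat g + 1 = 0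

theorem CH.conj {g : G F m} (hg : CH g) (x : G F m) : CH (x * g * x⁻¹) := by
  unfold CH at *
  rw [tr_conj, ← mat_pow, ← mat_pow, ← mat_pow, conj_pow, conj_pow, conj_pow]
  simp only [mat_mul, mat_pow]
  have := congrArg (fun M => mat x * M * mat x⁻¹) hg
  simp only [Matrix.mul_add, Matrix.add_mul, Matrix.mul_smul, Matrix.smul_mul, Matrix.mul_one,
    mat_mul_inv, Matrix.mul_zero, Matrix.zero_mul] at this
  exact this

theorem CH_all (g : G F m) : CH g := by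
  by_cases hg : g ∈ B F
  · rcases mem_B_cases hg with ⟨a, b, rfl⟩ | ⟨μ, c, d, -, rfl⟩
    · unfold CH
      rw [← mat_pow, u_pow_four]
      ext i j
      simp [add_self']
    · apply CH.conj
      unfold CH
      rw [tr_hh, mat_hh]
      have hμ := μ.ne_zero
      generalize (μ : F) = ν at hμ
      obtain ⟨l, rfl⟩ := θ_surjective ν
      have hl : l ≠ 0 := by simpa using hμ
      ext i j; fin_cases i <;> fin_cases j <;>
        simp only [pow_succ, pow_zero, Matrix.one_mul, Matrix.add_apply, Matrix.smul_apply,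
          Matrix.mul_apply, Fin.sum_univ_four] <;> simp [hM] <;> field_simp <;> grind
  · obtain ⟨x, -, a, b, rfl⟩ := not_mem_B_conj hg
    apply CH.conj
    unfold CH
    have : mat (u a b * w : G F m) =
        !![ff a b, b + a * θ a, a, 1; b, θ a, 1, 0; a, 1, 0, 0; 1, 0, 0, 0] := by
      ext i j; fin_cases i <;> fin_cases j <;>
        simp only [mat_mul, mat_u, mat_w, Matrix.mul_apply, Fin.sum_univ_four] <;> simp [uM, wM]
    rw [tr_u_w, this]
    ext i j; fin_cases i <;> fin_cases j <;>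
      simp only [pow_succ, pow_zero, Matrix.one_mul, Matrix.add_apply, Matrix.smul_apply,
        Matrix.mul_apply, Fin.sum_univ_four] <;> simp [ff] <;> grind

theorem pow_four_of_tr_eq_zero {g : G F m} (hg : tr g = 0) : g ^ 4 = 1 := by
  have := CH_all g
  unfold CH at this
  rw [hg] at this
  simp only [zero_smul, add_zero, θ_zero] at this
  apply mat_injective
  rw [mat_pow, mat_one]
  ext i j
  have h1 := congrFun (congrFun this i) j
  simp only [Matrix.add_apply, Matrix.zero_apply] at h1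
  grind

/-! ### Two-subgroups -/

theorem two_pow_ge_eight (F : Type*) [Field F] {m : ℕ} [SuzF F m] : 8 ≤ 2 ^ (2 * m + 1) := by
  rw [← card_F (F := F)]; exact eight_le_card

omit h in
theorem odd_q_sub_one : Odd (2 ^ (2 * m + 1) - 1) :=
  Nat.Even.sub_odd Nat.one_le_two_pow (Nat.even_pow.mpr ⟨even_two, by omega⟩) odd_one

omit h in
theorem odd_q_sq_add_one : Odd ((2 ^ (2 * m + 1)) ^ 2 + 1) :=
  Even.add_one (Nat.even_pow.mpr ⟨Nat.even_pow.mpr ⟨even_two, by omega⟩, by omega⟩)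

theorem exists_fix_of_isPGroup {P : Subgroup (G F m)} (hP : IsPGroup 2 P) :
    ∃ α : Pt F m, ∀ g ∈ P, g • α = α := by
  have : Fact (Nat.Prime 2) := ⟨Nat.prime_two⟩
  obtain ⟨α, hα⟩ := hP.nonempty_fixed_point_of_prime_not_dvd_card (Pt F m) (by
    rw [card_Pt, ← even_iff_two_dvd, Nat.not_even_iff_odd]; exact odd_q_sq_add_one)
  exact ⟨α, fun g hg => hα ⟨g, hg⟩⟩

include h in
theorem unit_eq_one_of_pow_two_pow {μ : Fˣ} {k : ℕ} (hμ : μ ^ 2 ^ k = 1) : μ = 1 := by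
  induction k with
  | zero => simpa using hμ
  | succ k ih =>
    apply ih
    rw [pow_succ, pow_mul] at hμ
    exact Units.ext (sq_eq_one' (by simpa using congrArg Units.val hμ))

theorem mem_U_of_pow {g : G F m} (hg : g ∈ B F) {k : ℕ} (hk : g ^ 2 ^ k = 1) : g ∈ U F := by
  rcases mem_B_cases hg with hU | ⟨μ, c, d, hμ, rfl⟩
  · exact hU
  · rw [conj_pow, conj_eq_one_iff, hh_pow, hh_eq_one] at hk
    exact absurd (unit_eq_one_of_pow_two_pow hk) hμ

theorem mem_U_of_tr {g : G F m} (hg : g ∈ B F) (ht : tr g = 0) : g ∈ U F :=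
  mem_U_of_pow hg (k := 2) (pow_four_of_tr_eq_zero ht)

theorem exists_conj_le_U {P : Subgroup (G F m)} (hP : IsPGroup 2 P) :
    ∃ x : G F m, ∀ g ∈ P, x⁻¹ * g * x ∈ U F := by
  obtain ⟨α, hα⟩ := exists_fix_of_isPGroup hP
  obtain ⟨x, rfl⟩ := exists_smul_inf_eq α
  refine ⟨x, fun g hg => ?_⟩
  obtain ⟨k, hk⟩ := hP ⟨g, hg⟩
  have hk' : g ^ 2 ^ k = 1 := congrArg Subtype.val hk
  refine mem_U_of_pow (k := k) ?_ ?_
  · rw [mem_B, mul_smul, mul_smul, hα g hg, inv_smul_smul]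
  · have := conj_pow (i := 2 ^ k) (a := x⁻¹) (b := g)
    rw [inv_inv] at this
    rw [this, hk']; simp

theorem isPGroup_zpowers {g : G F m} {k : ℕ} (hk : g ^ 2 ^ k = 1) :
    IsPGroup 2 (Subgroup.zpowers g) := by
  rintro ⟨_, n, rfl⟩
  refine ⟨k, Subtype.ext ?_⟩
  change (g ^ n) ^ 2 ^ k = 1
  rw [← zpow_natCast, ← _root_.zpow_mul, mul_comm, _root_.zpow_mul, zpow_natCast, hk,
    _root_.one_zpow]

theorem exists_conj_mem_U_of_pow {g : G F m} {k : ℕ} (hk : g ^ 2 ^ k = 1) :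
    ∃ x : G F m, x⁻¹ * g * x ∈ U F := by
  obtain ⟨x, hx⟩ := exists_conj_le_U (isPGroup_zpowers hk)
  exact ⟨x, hx g (Subgroup.mem_zpowers g)⟩

theorem exists_fix_of_pow {g : G F m} {k : ℕ} (hk : g ^ 2 ^ k = 1) : ∃ α : Pt F m, g • α = α := by
  obtain ⟨α, hα⟩ := exists_fix_of_isPGroup (isPGroup_zpowers hk)
  exact ⟨α, hα g (Subgroup.mem_zpowers g)⟩

theorem tr_eq_zero_of_mem_U {g : G F m} (hg : g ∈ U F) : tr g = 0 := by
  obtain ⟨a, b, rfl⟩ := hg; simp

theorem tr_eq_zero_of_pow {g : G F m} {k : ℕ} (hk : g ^ 2 ^ k = 1) : tr g = 0 := by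
  obtain ⟨x, hx⟩ := exists_conj_mem_U_of_pow hk
  rw [← tr_conj' x, tr_eq_zero_of_mem_U hx]

theorem tr_eq_zero_iff {g : G F m} : tr g = 0 ↔ g ^ 4 = 1 :=
  ⟨pow_four_of_tr_eq_zero, fun hg => tr_eq_zero_of_pow (k := 2) hg⟩

theorem tr_eq_zero_of_sq {g : G F m} (hg : g * g = 1) : tr g = 0 :=
  tr_eq_zero_of_pow (k := 1) (by simpa [sq] using hg)

theorem exists_conj_mem_U_of_tr {g : G F m} (hg : tr g = 0) : ∃ x : G F m, x⁻¹ * g * x ∈ U F :=
  exists_conj_mem_U_of_pow (k := 2) (pow_four_of_tr_eq_zero hg)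

theorem exists_fix_of_tr {g : G F m} (hg : tr g = 0) : ∃ α : Pt F m, g • α = α :=
  exists_fix_of_pow (k := 2) (pow_four_of_tr_eq_zero hg)

theorem ne_one_of_tr {g : G F m} (hg : tr g ≠ 0) : g ≠ 1 := by
  rintro rfl; exact hg tr_one

/-- A non-trivial two-element fixes exactly one point. -/
theorem fix_unique {g : G F m} (hg : tr g = 0) (h1 : g ≠ 1) {α β : Pt F m} (ha : g • α = α)
    (hb : g • β = β) : α = β := by
  obtain ⟨x, hx⟩ := exists_conj_mem_U_of_tr hg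
  have h1' : x⁻¹ * g * x ≠ 1 := by
    intro he; apply h1
    have : g = x * (x⁻¹ * g * x) * x⁻¹ := by group
    rw [this, he]; group
  have ea := eq_inf_of_mem_U hx h1' (α := x⁻¹ • α) (by rw [mul_smul, mul_smul, smul_inv_smul, ha])
  have eb := eq_inf_of_mem_U hx h1' (α := x⁻¹ • β) (by rw [mul_smul, mul_smul, smul_inv_smul, hb])
  exact smul_left_cancel x⁻¹ (ea.trans eb.symm)

theorem mem_B_of_conj_mem_U {g x : G F m} (hg : g ∈ U F) (h1 : g ≠ 1) (hx : x * g * x⁻¹ ∈ U F) :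
    x ∈ B F := by
  have : g • (x⁻¹ • (inf : Pt F m)) = x⁻¹ • inf := by
    have h2 : (x * g * x⁻¹) • (inf : Pt F m) = inf := U_le_B hx
    rw [mul_smul, mul_smul, smul_eq_iff_eq_inv_smul] at h2
    exact h2
  have h3 := eq_inf_of_mem_U hg h1 this
  exact inv_mem_iff.mp h3

theorem conj_mem_U {g x : G F m} (hg : g ∈ U F) (hx : x ∈ B F) : x * g * x⁻¹ ∈ U F :=
  mem_U_of_tr (mul_mem (mul_mem hx (U_le_B hg)) (inv_mem hx))
    (by rw [tr_conj, tr_eq_zero_of_mem_U hg])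

theorem mem_Z_of_sq {g : G F m} (hg : g ∈ U F) (h2 : g * g = 1) : g ∈ Z F := by
  obtain ⟨a, b, rfl⟩ := hg
  rw [← sq, u_sq, u_eq_one] at h2
  have : a = 0 := by simpa using h2.2
  subst this
  simp

theorem sq_of_mem_Z {g : G F m} (hg : g ∈ Z F) : g * g = 1 := by
  obtain ⟨b, rfl⟩ := hg
  rw [← sq, u_sq]; simp

theorem conj_mem_Z {g x : G F m} (hg : g ∈ Z F) (hx : x ∈ B F) : x * g * x⁻¹ ∈ Z F := by
  apply mem_Z_of_sq (conj_mem_U (Z_le_U hg) hx)
  rw [conj_mul, sq_of_mem_Z hg]; simp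

theorem u_comm_z (a b c : F) : (u a b * u 0 c : G F m) = u 0 c * u a b := by
  simp [u_mul_u, add_comm]

theorem u_conj_u (a b c d : F) :
    (u c d * u a b * (u c d)⁻¹ : G F m) = u a (b + θ a * c + a * θ c) := by
  rw [mul_inv_eq_iff_eq_mul, u_mul_u, u_mul_u, u_inj]
  constructor <;> grind

theorem B_conj_u (c d : F) (μ : Fˣ) (a b : F) :
    (u c d * hh μ * u a b * (u c d * hh μ)⁻¹ : G F m) =
      u (μ * a) (μ * θ (μ : F) * b + θ (μ * a : F) * c + μ * a * θ c) := by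
  rw [← u_conj_u (μ * a) _ c d, ← hh_conj_u]; group

theorem B_conj_z (c d : F) (μ : Fˣ) (b : F) :
    (u c d * hh μ * u 0 b * (u c d * hh μ)⁻¹ : G F m) = u 0 (μ * θ (μ : F) * b) := by
  rw [B_conj_u]; simp

theorem mem_U_of_commute {g c : G F m} (hg : g ∈ U F) (h1 : g ≠ 1) (hc : c * g = g * c) :
    c ∈ U F := by
  have hc' : c * g * c⁻¹ = g := by rw [hc, mul_inv_cancel_right]
  have hB := mem_B_of_conj_mem_U hg h1 (by rw [hc']; exact hg)
  obtain ⟨x, y, μ, rfl⟩ := mem_B_iff.mp hB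
  obtain ⟨a, b, rfl⟩ := hg
  rw [B_conj_u, u_inj] at hc'
  suffices μ = 1 by simp [this]
  apply Units.ext
  by_cases ha : a = 0
  · subst ha
    have hb : b ≠ 0 := by rintro rfl; simp at h1
    have : (μ : F) * θ (μ : F) * b = b := by simpa using hc'.2
    exact nm_eq_one.mp (mul_right_cancel₀ hb (by rw [this, one_mul]))
  · exact mul_right_cancel₀ ha (by rw [hc'.1]; simp)

theorem eq_hh_mul_w_of_swap {g : G F m} (h1 : g • (inf : Pt F m) = pt 0 0)
    (h2 : g • (pt 0 0 : Pt F m) = inf) : ∃ μ : Fˣ, g = hh μ * w := by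
  obtain ⟨μ, hμ⟩ := eq_hh_of_fix (g := g * w) (by simp [mul_smul, h2]) (by simp [mul_smul, h1])
  exact ⟨μ, by rw [← hμ, mul_assoc, w_mul_w, mul_one]⟩

theorem hh_mul_w_sq (μ : Fˣ) : (hh μ * w * (hh μ * w) : G F m) = 1 := by
  rw [mul_assoc, ← mul_assoc w, w_mul_hh, mul_assoc, w_mul_w, mul_one, hh_mul_hh]; simp

theorem sq_of_swap {g : G F m} {α β : Pt F m} (hne : α ≠ β) (h1 : g • α = β) (h2 : g • β = α) :
    g * g = 1 := by
  obtain ⟨x, rfl, rfl⟩ := exists_smul_pair hne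
  obtain ⟨μ, hμ⟩ := eq_hh_mul_w_of_swap (g := x⁻¹ * g * x)
    (by rw [mul_smul, mul_smul, h1, inv_smul_smul]) (by rw [mul_smul, mul_smul, h2, inv_smul_smul])
  have := hh_mul_w_sq (m := m) μ
  rw [← hμ] at this
  have e : g * g = x * (x⁻¹ * g * x * (x⁻¹ * g * x)) * x⁻¹ := by group
  rw [e, this]; group

/-- Elements conjugating a non-trivial diagonal element into `H`. -/
theorem conj_hh_mem_H {x : G F m} {μ : Fˣ} (hμ : μ ≠ 1) (hx : x * hh μ * x⁻¹ ∈ H F) :
    (∃ ν : Fˣ, x = hh ν) ∨ ∃ ν : Fˣ, x = hh ν * w := by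
  obtain ⟨h1, h2⟩ := mem_H_iff_fix.mp hx
  rw [mul_smul, mul_smul, smul_eq_iff_eq_inv_smul] at h1 h2
  have hne : x⁻¹ • (inf : Pt F m) ≠ x⁻¹ • pt 0 0 := fun he => inf_ne_pt 0 0 (smul_left_cancel _ he)
  rcases hh_fix hμ h1 with e1 | e1 <;> rcases hh_fix hμ h2 with e2 | e2
  · exact absurd (e1.trans e2.symm) hne
  · left
    rw [inv_smul_eq_iff] at e1 e2
    exact eq_hh_of_fix e1.symm e2.symm
  · right
    rw [inv_smul_eq_iff] at e1 e2
    exact eq_hh_mul_w_of_swap e2.symm e1.symm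
  · exact absurd (e1.trans e2.symm) hne

theorem hh_comm (μ ν : Fˣ) : (hh μ * hh ν : G F m) = hh ν * hh μ := by
  rw [hh_mul_hh, hh_mul_hh, mul_comm]

theorem hh_w_conj_hh (ν μ : Fˣ) : (hh ν * w * hh μ * (hh ν * w)⁻¹ : G F m) = hh μ⁻¹ := by
  rw [mul_inv_eq_iff_eq_mul, mul_assoc, w_mul_hh, ← mul_assoc, hh_comm, mul_assoc]

theorem centralizer_hh {μ : Fˣ} (hμ : μ ≠ 1) :
    Subgroup.centralizer {(hh μ : G F m)} = H F := by
  ext x
  rw [Subgroup.mem_centralizer_singleton_iff]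
  constructor
  · intro hc
    have hc' : x * hh μ * x⁻¹ = hh μ := by rw [hc, mul_inv_cancel_right]
    rcases conj_hh_mem_H hμ (x := x) (by rw [hc']; simp) with ⟨ν, rfl⟩ | ⟨ν, rfl⟩
    · simp
    · rw [hh_w_conj_hh, hh_inj] at hc'
      have : μ ^ 2 ^ 1 = 1 := by
        rw [pow_one, sq]; nth_rewrite 1 [← hc']; simp
      exact absurd (unit_eq_one_of_pow_two_pow this) hμ
  · rintro ⟨ν, rfl⟩
    exact hh_comm ν μ

/-- Normal form for an involution outside `B`. -/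
theorem invol_not_mem_B {j : G F m} (hj : j * j = 1) (hB : j ∉ B F) :
    ∃ (c d : F) (ν : Fˣ), j = u c d * hh ν * w * (u c d * hh ν)⁻¹ := by
  obtain ⟨x, y, he⟩ := exists_eq_pt (α := j • (inf : Pt F m)) hB
  obtain ⟨μ, hμ⟩ := eq_hh_mul_w_of_swap (g := (u x y)⁻¹ * j * u x y)
    (by rw [mul_smul, mul_smul, u_smul_inf, he, inv_smul_eq_iff, u_smul_zero])
    (by rw [mul_smul, mul_smul, u_smul_zero, ← he, ← mul_smul j j, hj, one_smul, inv_smul_eq_iff,
      u_smul_inf])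
  obtain ⟨ν, rfl⟩ := exists_unit_sq μ
  refine ⟨x, y, ν, ?_⟩
  rw [← hh_conj_w] at hμ
  calc j = u x y * ((u x y)⁻¹ * j * u x y) * (u x y)⁻¹ := by group
    _ = _ := by rw [hμ]; group

/-- Normal form for a pair of involutions whose product has non-zero trace. -/
theorem invol_pair {i j : G F m} (hi : i * i = 1) (hj : j * j = 1) (ht : tr (i * j) ≠ 0) :
    ∃ (x : G F m) (b : F), i = x * u 0 b * x⁻¹ ∧ j = x * w * x⁻¹ := by
  obtain ⟨x, hx⟩ := exists_conj_mem_U_of_tr (tr_eq_zero_of_sq hi)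
  have hi' : x⁻¹ * i * x * (x⁻¹ * i * x) = 1 := by
    calc _ = x⁻¹ * (i * i) * x := by group
      _ = 1 := by rw [hi]; group
  have hj' : x⁻¹ * j * x * (x⁻¹ * j * x) = 1 := by
    calc _ = x⁻¹ * (j * j) * x := by group
      _ = 1 := by rw [hj]; group
  have hZ := mem_Z_of_sq hx hi'
  have hB : x⁻¹ * j * x ∉ B F := by
    intro hB
    have hU := mem_U_of_tr hB (tr_eq_zero_of_sq hj')
    apply ht
    rw [← tr_conj' x, ← tr_eq_zero_of_mem_U (mul_mem hx hU)]
    congr 1; group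
  obtain ⟨c, d, ν, he⟩ := invol_not_mem_B hj' hB
  obtain ⟨b, hb⟩ := conj_mem_Z hZ (x := (u c d * hh ν)⁻¹) (inv_mem (mul_mem (by simp) (by simp)))
  refine ⟨x * (u c d * hh ν), b, ?_, ?_⟩
  · rw [← hb]; group
  · calc j = x * (x⁻¹ * j * x) * x⁻¹ := by group
      _ = _ := by rw [he]; group

theorem isConj_z_w_of_invol {i j : G F m} (hi : i * i = 1) (hj : j * j = 1) (ht : tr (i * j) ≠ 0) :
    IsConj (u 0 (φ (tr (i * j))) * w) (i * j) := by
  obtain ⟨x, b, rfl, rfl⟩ := invol_pair hi hj ht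
  rw [conj_mul, tr_conj, tr_z_w, φ_θ]
  exact isConj_iff.mpr ⟨x, rfl⟩

theorem isConj_z_z {b c : F} (hb : b ≠ 0) (hc : c ≠ 0) : IsConj (u 0 b : G F m) (u 0 c) := by
  obtain ⟨μ, hμ⟩ := nm_surjective (c / b)
  simp only at hμ
  have hμ0 : μ ≠ 0 := by rintro rfl; simp [hb, hc, eq_comm] at hμ
  refine isConj_iff.mpr ⟨hh (Units.mk0 μ hμ0), ?_⟩
  rw [hh_conj_u]
  simp [hμ, hb]

theorem exists_conj_eq_z {i : G F m} (hi : i * i = 1) (h1 : i ≠ 1) :
    ∃ (x : G F m) (b : F), b ≠ 0 ∧ i = x * u 0 b * x⁻¹ := by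
  obtain ⟨x, hx⟩ := exists_conj_mem_U_of_tr (tr_eq_zero_of_sq hi)
  have hi' : x⁻¹ * i * x * (x⁻¹ * i * x) = 1 := by
    calc _ = x⁻¹ * (i * i) * x := by group
      _ = 1 := by rw [hi]; group
  obtain ⟨b, hb⟩ := mem_Z_of_sq hx hi'
  refine ⟨x, b, ?_, by rw [← hb]; group⟩
  rintro rfl
  apply h1
  calc i = x * (x⁻¹ * i * x) * x⁻¹ := by group
    _ = 1 := by rw [hb]; simp

theorem isConj_invol {i j : G F m} (hi : i * i = 1) (hi1 : i ≠ 1) (hj : j * j = 1) (hj1 : j ≠ 1) :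
    IsConj i j := by
  obtain ⟨x, b, hb, rfl⟩ := exists_conj_eq_z hi hi1
  obtain ⟨y, c, hc, rfl⟩ := exists_conj_eq_z hj hj1
  exact ((isConj_iff.mpr ⟨x, rfl⟩ : IsConj (u 0 b : G F m) _).symm.trans (isConj_z_z hb hc)).trans
    (isConj_iff.mpr ⟨y, rfl⟩)

/-- A normal subgroup containing an involution is everything. -/
theorem eq_top_of_normal_of_invol {N : Subgroup (G F m)} [hN : N.Normal] {i : G F m}
    (hi : i * i = 1) (hi1 : i ≠ 1) (hiN : i ∈ N) : N = ⊤ := by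
  have hall : ∀ j : G F m, j * j = 1 → j ∈ N := by
    intro j hj
    by_cases hj1 : j = 1
    · rw [hj1]; exact one_mem _
    · obtain ⟨x, rfl⟩ := isConj_iff.mp (isConj_invol hi hi1 hj hj1)
      exact hN.conj_mem _ hiN _
  have hw : w ∈ N := hall _ w_mul_w
  have hH : ∀ μ : Fˣ, hh μ ∈ N := fun μ => by
    have := mul_mem (hall _ (hh_mul_w_sq μ)) hw
    rwa [mul_assoc, w_mul_w, mul_one] at this
  refine eq_top_of_mem (fun a b => ?_) hH hw
  obtain ⟨t, ht0, ht1⟩ := exists_ne_zero_one (F := F)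
  have hμ : Units.mk0 t ht0 ≠ 1 := fun he => ht1 (congrArg Units.val he)
  obtain ⟨c, d, he⟩ := u_mul_hh_conj (m := m) a b hμ
  have h1 : u a b * hh (Units.mk0 t ht0) ∈ N := by
    rw [he]; exact hN.conj_mem _ (hH _) _
  exact (N.mul_mem_cancel_right (hH _)).mp h1

/-! ### Sylow two-subgroups -/

theorem isPGroup_U : IsPGroup 2 (U F) := by
  rintro ⟨_, a, b, rfl⟩
  exact ⟨2, Subtype.ext (u_pow_four a b)⟩

theorem exists_sylow_eq (P : Sylow 2 (G F m)) :
    ∃ x : G F m, ∀ g : G F m, g ∈ (P : Subgroup (G F m)) ↔ x⁻¹ * g * x ∈ U F := by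
  obtain ⟨x, hx⟩ := exists_conj_le_U P.isPGroup'
  have hp : IsPGroup 2 ((U F).comap (MulAut.conj x⁻¹).toMonoidHom) :=
    isPGroup_U.comap_of_injective _ (MulAut.conj x⁻¹).injective
  have := P.is_maximal' hp (fun g hg => by simpa using hx g hg)
  refine ⟨x, fun g => ?_⟩
  rw [← this]
  simp

theorem exists_sylow_eq_U : ∃ P : Sylow 2 (G F m), (P : Subgroup (G F m)) = U F := by
  obtain ⟨P, hP⟩ := (isPGroup_U (F := F)).exists_le_sylow
  obtain ⟨x, hx⟩ := exists_sylow_eq P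
  refine ⟨P, le_antisymm (fun g hg => ?_) hP⟩
  have h1 : (u 0 1 : G F m) ≠ 1 := by simp [u_eq_one]
  have hB : x⁻¹ ∈ B F := mem_B_of_conj_mem_U (u_mem_U 0 1) h1
    (by rw [inv_inv]; exact (hx _).mp (hP (u_mem_U 0 1)))
  have := conj_mem_U ((hx g).mp hg) (inv_mem_iff.mp hB)
  convert this using 1
  group

theorem normalizer_U : Subgroup.normalizer (U F : Set (G F m)) = B F := by
  ext x
  rw [Subgroup.mem_normalizer_iff]
  constructor
  · intro hx
    have h1 : (u 0 1 : G F m) ≠ 1 := by simp [u_eq_one]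
    exact mem_B_of_conj_mem_U (u_mem_U 0 1) h1 ((hx _).mp (u_mem_U 0 1))
  · intro hx g
    refine ⟨fun hg => conj_mem_U hg hx, fun hg => ?_⟩
    have := conj_mem_U hg (inv_mem hx)
    convert this using 1
    group

end Cfsg.Agent.Suz
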