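import Cfsg.Prelude.Def_Sz
import Cfsg.Agent.Lib.Suz.Trace

/-! The two models of the Suzuki group are isomorphic. -/

set_option autoImplicit false

namespace Cfsg.Agent.Suz

open Matrix MulAction

variable {F : Type*} [Field F] {m : ℕ}

theorem altForm4_eq (u v : Fin 4 → F) : Lie.altForm4 u v = u ⬝ᵥ (wM F *ᵥ v) := by
  simp [Lie.altForm4, wM, dotProduct, mulVec, Fin.sum_univ_four]

theorem symp_apply (A : Matrix (Fin 4) (Fin 4) F) (i j : Fin 4) :
    (Aᵀ * wM F * A) i j = Lie.altForm4 (fun k => A k i) (fun k => A k j) := by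
  simp only [Matrix.mul_apply, Fin.sum_univ_four, transpose_apply, Lie.altForm4]
  simp [wM]; ring

theorem mem_Sp4_iff (g : GL (Fin 4) F) :
    g ∈ Lie.Sp4 F ↔ (g : Matrix (Fin 4) (Fin 4) F)ᵀ * wM F * g = wM F := by
  constructor
  · intro hg
    ext i j
    have := hg (Pi.single i 1) (Pi.single j 1)
    rw [symp_apply]
    simp only [Units.coeHom_apply, mulVec_single_one] at this
    refine this.trans ?_
    fin_cases i <;> fin_cases j <;> simp [Lie.altForm4, wM]
  · intro hg u v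
    simp only [Units.coeHom_apply, altForm4_eq]
    rw [mulVec_mulVec, dotProduct_comm, dotProduct_mulVec, ← mulVec_transpose, dotProduct_comm,
      mulVec_mulVec, ← Matrix.mul_assoc, hg]

variable [h : SuzF F m]

include h in
theorem minor_mul {a a' b b' : Fin 4 → F} (ha : Lie.altForm4 a a' = 0) (hb : Lie.altForm4 b b' = 0) :
    (a 0 * b 0 + a 1 * b 1 + a 2 * b 2 + a 3 * b 3) *
        (a' 0 * b' 0 + a' 1 * b' 1 + a' 2 * b' 2 + a' 3 * b' 3) -
      (a' 0 * b 0 + a' 1 * b 1 + a' 2 * b 2 + a' 3 * b 3) *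
        (a 0 * b' 0 + a 1 * b' 1 + a 2 * b' 2 + a 3 * b' 3) =
    (a 0 * a' 1 - a' 0 * a 1) * (b 0 * b' 1 - b 1 * b' 0) +
      (a 0 * a' 2 - a' 0 * a 2) * (b 0 * b' 2 - b 2 * b' 0) +
      (a 1 * a' 3 - a' 1 * a 3) * (b 1 * b' 3 - b 3 * b' 1) +
      (a 2 * a' 3 - a' 2 * a 3) * (b 2 * b' 3 - b 3 * b' 2) := by
  unfold Lie.altForm4 at ha hb
  have hX : a 0 * a' 3 - a' 0 * a 3 = a 1 * a' 2 - a' 1 * a 2 := by grind
  have hY : b 0 * b' 3 - b 3 * b' 0 = b 1 * b' 2 - b 2 * b' 1 := by grind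
  have h2 : (2 : F) = 0 := two_eq_zero'
  linear_combination (b 0 * b' 3 - b 3 * b' 0) * hX + (a 1 * a' 2 - a' 1 * a 2) * hY +
    ((a 1 * a' 2 - a' 1 * a 2) * (b 1 * b' 2 - b 2 * b' 1)) * h2

include h in
theorem symp_transpose {A : Matrix (Fin 4) (Fin 4) F} (hA : Aᵀ * wM F * A = wM F) :
    Aᵀᵀ * wM F * Aᵀ = wM F := by
  have h1 : (wM F * Aᵀ * wM F) * A = 1 := by
    rw [Matrix.mul_assoc, Matrix.mul_assoc, ← Matrix.mul_assoc Aᵀ, hA, wM_mul_wM]
  have h2 : A * (wM F * Aᵀ * wM F) = 1 := mul_eq_one_comm.mp h1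
  rw [transpose_transpose]
  calc A * wM F * Aᵀ = A * (wM F * Aᵀ * wM F) * wM F := by
        simp only [Matrix.mul_assoc, wM_mul_wM, Matrix.mul_one]
    _ = wM F := by rw [h2, Matrix.one_mul]

include h in
theorem star4_mul {A C : Matrix (Fin 4) (Fin 4) F} (hA : Aᵀ * wM F * A = wM F)
    (hC : Cᵀ * wM F * C = wM F) : Lie.star4 (A * C) = Lie.star4 A * Lie.star4 C := by
  have hA' := symp_transpose hA
  have h1 : ∀ p : Fin 4, Lie.altForm4 (fun k => A (Lie.pairOf p).1 k) (fun k => A (Lie.pairOf p).2 k)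
      = 0 := by
    intro p
    have := symp_apply Aᵀ (Lie.pairOf p).1 (Lie.pairOf p).2
    rw [hA'] at this
    refine Eq.trans this.symm ?_
    fin_cases p <;> simp [Lie.pairOf, wM]
  have h2 : ∀ p : Fin 4, Lie.altForm4 (fun k => C k (Lie.pairOf p).1) (fun k => C k (Lie.pairOf p).2)
      = 0 := by
    intro p
    rw [← symp_apply, hC]
    fin_cases p <;> simp [Lie.pairOf, wM]
  ext p r
  have := minor_mul (h1 p) (h2 r)
  simp only [Lie.star4, of_apply, Matrix.mul_apply, Fin.sum_univ_four]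
  rw [this]
  simp [Lie.pairOf]

/-- The defining conditions of the second model. -/
def IsLS (A : Matrix (Fin 4) (Fin 4) F) : Prop :=
  Aᵀ * wM F * A = wM F ∧ Lie.star4 A = A.map θ

theorem IsLS.mul {A C : Matrix (Fin 4) (Fin 4) F} (hA : IsLS A) (hC : IsLS C) : IsLS (A * C) := by
  constructor
  · rw [transpose_mul]
    calc Cᵀ * Aᵀ * wM F * (A * C) = Cᵀ * (Aᵀ * wM F * A) * C := by simp only [Matrix.mul_assoc]
      _ = wM F := by rw [hA.1, hC.1]
  · rw [star4_mul hA.1 hC.1, hA.2, hC.2]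
    exact (Matrix.map_mul (f := θHom F)).symm

theorem isLS_mat (g : G F m) : IsLS (mat g) := by
  induction g using induction_gen with
  | hU a b =>
    refine ⟨mat_symp _, ?_⟩
    ext i j; fin_cases i <;> fin_cases j <;> simp [Lie.star4, Lie.pairOf, uM, ff] <;> grind
  | hH μ =>
    refine ⟨mat_symp _, ?_⟩
    rw [mat_hh]
    have hμ := μ.ne_zero
    generalize (μ : F) = ν at hμ
    obtain ⟨l, rfl⟩ := θ_surjective ν
    have hl : l ≠ 0 := by simpa using hμ
    ext i j; fin_cases i <;> fin_cases j <;> simp [Lie.star4, Lie.pairOf, hM] <;> field_simp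
  | hw =>
    refine ⟨mat_symp _, ?_⟩
    ext i j; fin_cases i <;> fin_cases j <;> simp [Lie.star4, Lie.pairOf, wM] <;> grind
  | hmul x y hx hy => exact hx.mul hy

theorem IsLS.det {A : Matrix (Fin 4) (Fin 4) F} (hA : IsLS A) : A.det = 1 := by
  have := congrArg Matrix.det hA.1
  rw [det_mul, det_mul, det_transpose, det_wM, mul_one] at this
  exact sq_eq_one' (by rw [sq, this])

theorem IsLS.onO_col {A : Matrix (Fin 4) (Fin 4) F} (hA : IsLS A) : OnO (A *ᵥ vinf F) := by
  have hv : A *ᵥ vinf F = ![A 0 0, A 1 0, A 2 0, A 3 0] := by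
    ext i; fin_cases i <;> simp [vinf, mulVec, dotProduct, Fin.sum_univ_four]
  have h0 := congrFun (congrFun hA.2 0) 0
  have h1 := congrFun (congrFun hA.2 1) 0
  have h2 := congrFun (congrFun hA.2 2) 0
  have h3 := congrFun (congrFun hA.2 3) 0
  have hb := symp_apply A 0 1
  have hd := symp_apply A 0 3
  rw [hA.1] at hb hd
  simp [Lie.star4, Lie.pairOf, Lie.altForm4, wM] at h0 h1 h2 h3 hb hd
  rw [hv]
  generalize A 0 0 = v0 at *
  generalize A 1 0 = v1 at *
  generalize A 2 0 = v2 at *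
  generalize A 3 0 = v3 at *
  generalize A 0 1 = u0 at *
  generalize A 1 1 = u1 at *
  generalize A 2 1 = u2 at *
  generalize A 3 1 = u3 at *
  by_cases hv3 : v3 = 0
  · subst hv3
    have e2 : v2 = 0 := by
      by_contra hne
      have hu3 : u3 = 0 := by simpa [hne] using h3
      subst hu3
      exact hne (by simpa using h2.symm)
    subst e2
    have e1 : v1 = 0 := by
      by_contra hne
      have hu3 : u3 = 0 := by simpa [hne] using h2
      subst hu3
      have hu2 : u2 = 0 := by simpa [hne] using hb.symm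
      subst hu2
      exact hne (by simpa using h1.symm)
    subst e1
    have e0 : v0 ≠ 0 := by rintro rfl; simp at hd
    refine ⟨v0, e0, Or.inl ?_⟩
    ext i; fin_cases i <;> simp [vinf]
  · refine ⟨v3, hv3, Or.inr ⟨v2 / v3, v1 / v3, ?_⟩⟩
    have hp : (v1 * u2 + v2 * u1) ^ 2 = θ (v0 * v3 + v1 * v2) := by
      simp only [θ_add, θ_mul]; grind
    have hp' : θ (v1 * u2 + v2 * u1) = v0 * v3 + v1 * v2 := by
      apply θ_injective; rw [θ_θ, hp]
    have hq : v1 * θ v3 + v2 * θ v2 + v3 * (v1 * u2 + v2 * u1) = 0 := by grind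
    have hq' := congrArg θ hq
    rw [θ_add, θ_add, θ_mul v3, hp', θ_mul, θ_mul, θ_θ, θ_θ, θ_zero] at hq'
    have hv3' := θ_ne_zero hv3
    ext i; fin_cases i <;> simp [vec, ff] <;> field_simp
    grind

theorem IsLS.exists_mat {A : Matrix (Fin 4) (Fin 4) F} (hA : IsLS A) : ∃ g : G F m, mat g = A := by
  refine ⟨⟨⟨A, hA.det⟩, (mem_Sz_iff _).mpr ⟨hA.onO_col, fun x y => ?_⟩⟩, rfl⟩
  have := (hA.mul (isLS_mat (u x y * w : G F m))).onO_col
  rw [← mulVec_mulVec, mat_mul, ← mulVec_mulVec, mat_w, wM_vinf, mat_u, uM_vec] at this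
  simpa using this

/-- The embedding into the general linear group. -/
def toGLHom (F : Type*) [Field F] (m : ℕ) : G F m →* GL (Fin 4) F :=
  SpecialLinearGroup.toGL.comp (Cfsg.Sz F m).subtype

omit h in
theorem toGLHom_coe (g : G F m) : (toGLHom F m g : Matrix (Fin 4) (Fin 4) F) = mat g := rfl

omit h in
theorem toGLHom_injective : Function.Injective (toGLHom F m) := fun _ _ he =>
  mat_injective (by rw [← toGLHom_coe, he, toGLHom_coe])

theorem range_toGLHom : (toGLHom F m).range = Lie.Sz F (2 ^ (m + 1)) := by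
  apply le_antisymm
  · rintro _ ⟨g, rfl⟩
    exact Subgroup.subset_closure ⟨(mem_Sp4_iff _).mpr (isLS_mat g).1, (isLS_mat g).2⟩
  · rw [Lie.Sz, Subgroup.closure_le]
    rintro g ⟨h1, h2⟩
    obtain ⟨k, hk⟩ := IsLS.exists_mat (m := m) ⟨(mem_Sp4_iff _).mp h1, h2⟩
    exact ⟨k, Units.ext hk⟩

/-- The isomorphism between the two models. -/
noncomputable def lieEquiv (F : Type*) [Field F] {m : ℕ} [SuzF F m] :
    G F m ≃* ↥(Lie.Sz F (2 ^ (m + 1))) :=
  (MonoidHom.ofInjective (toGLHom_injective (F := F) (m := m))).trans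
    (MulEquiv.subgroupCongr range_toGLHom)

end Cfsg.Agent.Suz
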