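import Cfsg.Agent.Lib.Suz.Poly

/-! Elements of odd order in the Suzuki group and their centralisers. -/

set_option autoImplicit false

namespace Cfsg.Agent.Suz

open Matrix Polynomial MulAction

variable {F : Type*} [Field F] {m : ℕ}

/-- Fixed point free elements. -/
def FPF (g : G F m) : Prop := ∀ α : Pt F m, g • α ≠ α

theorem mem_cent {A : Type*} [Group A] {g c : A} :
    c ∈ Subgroup.centralizer ({g} : Set A) ↔ c * g = g * c :=
  Subgroup.mem_centralizer_singleton_iff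

theorem mem_cent_conj {A : Type*} [Group A] {x g c : A} :
    c ∈ Subgroup.centralizer ({x * g * x⁻¹} : Set A) ↔
      x⁻¹ * c * x ∈ Subgroup.centralizer ({g} : Set A) := by
  rw [mem_cent, mem_cent]
  constructor
  · intro hc
    calc x⁻¹ * c * x * g = x⁻¹ * (c * (x * g * x⁻¹)) * x := by group
      _ = _ := by rw [hc]; group
  · intro hc
    calc c * (x * g * x⁻¹) = x * (x⁻¹ * c * x * g) * x⁻¹ := by group
      _ = _ := by rw [hc]; group

theorem cent_conj {A : Type*} [Group A] (x g : A) :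
    Subgroup.centralizer ({x * g * x⁻¹} : Set A) =
      (Subgroup.centralizer ({g} : Set A)).map (MulAut.conj x).toMonoidHom := by
  ext c
  rw [mem_cent_conj, Subgroup.mem_map]
  constructor
  · intro hc; exact ⟨_, hc, by simp [mul_assoc]⟩
  · rintro ⟨d, hd, rfl⟩; simpa [mul_assoc] using hd

/-- Conjugate elements have isomorphic centralisers. -/
noncomputable def centConjEquiv {A : Type*} [Group A] (x g : A) :
    Subgroup.centralizer ({g} : Set A) ≃* Subgroup.centralizer ({x * g * x⁻¹} : Set A) :=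
  ((MulAut.conj x).subgroupMap _).trans (MulEquiv.subgroupCongr (cent_conj x g).symm)

theorem card_cent_conj {A : Type*} [Group A] (x g : A) :
    Nat.card (Subgroup.centralizer ({x * g * x⁻¹} : Set A)) =
      Nat.card (Subgroup.centralizer ({g} : Set A)) :=
  (Nat.card_congr (centConjEquiv x g).toEquiv).symm

theorem FPF.conj {g : G F m} (hg : FPF g) (x : G F m) : FPF (x * g * x⁻¹) := by
  intro α he
  rw [mul_smul, mul_smul, smul_eq_iff_eq_inv_smul] at he
  exact hg _ he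

variable [h : SuzF F m]

theorem FPF.tr_ne_zero {g : G F m} (hg : FPF g) : tr g ≠ 0 := fun ht => by
  obtain ⟨α, hα⟩ := exists_fix_of_tr ht
  exact hg α hα

theorem FPF.ne_one {g : G F m} (hg : FPF g) : g ≠ 1 := ne_one_of_tr hg.tr_ne_zero

theorem FPF.eq_one_of_commute {g c : G F m} (hg : FPF g) (hc : c * g = g * c) {α : Pt F m}
    (hα : c • α = α) : c = 1 := by
  by_contra h1
  have hβ : c • (g • α) = g • α := by rw [← mul_smul, hc, mul_smul, hα]
  have hγ : c • (g • g • α) = g • g • α := by rw [← mul_smul, hc, mul_smul, hβ]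
  have h2 : g • g • α = α := by
    by_contra hne
    exact h1 (eq_one_of_fix_three (hg α).symm (Ne.symm hne) (hg _).symm hα hβ hγ)
  exact hg.tr_ne_zero (tr_eq_zero_of_sq (sq_of_swap (hg α).symm rfl h2))

theorem FPF.of_commute {g c : G F m} (hg : FPF g) (hc : c * g = g * c) (h1 : c ≠ 1) : FPF c :=
  fun _ hα => h1 (hg.eq_one_of_commute hc hα)

theorem FPF.card_cent_dvd {g : G F m} (hg : FPF g) :
    Nat.card (Subgroup.centralizer ({g} : Set (G F m))) ∣ (2 ^ (2 * m + 1)) ^ 2 + 1 := by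
  have e := MulAction.selfEquivOrbitsQuotientProd
    (G := Subgroup.centralizer ({g} : Set (G F m))) (X := Pt F m) (fun α => by
      rw [eq_bot_iff]
      rintro ⟨c, hc⟩ hα
      exact Subtype.ext (hg.eq_one_of_commute (mem_cent.mp hc) hα))
  rw [← card_Pt (F := F), Nat.card_congr e, Nat.card_prod]
  exact Dvd.intro_left _ rfl

theorem FPF.pow_eq_one {g : G F m} (hg : FPF g) : g ^ ((2 ^ (2 * m + 1)) ^ 2 + 1) = 1 :=
  orderOf_dvd_iff_pow_eq_one.mp
    ((Subgroup.orderOf_dvd_natCard _ (mem_cent.mpr rfl)).trans hg.card_cent_dvd)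

theorem fpf_of_pow {g : G F m} (h1 : g ≠ 1) (hg : g ^ ((2 ^ (2 * m + 1)) ^ 2 + 1) = 1) : FPF g := by
  intro α hα
  obtain ⟨x, rfl⟩ := exists_smul_inf_eq α
  have hB : x⁻¹ * g * x ∈ B F := by rw [mem_B, mul_smul, mul_smul, hα, inv_smul_smul]
  have h2 := Subgroup.orderOf_dvd_natCard _ hB
  have h3 : orderOf (x⁻¹ * g * x) = orderOf g := by
    simpa using (MulAut.conj x⁻¹).orderOf_eq g
  rw [card_B, h3] at h2
  exact h1 (orderOf_eq_one_iff.mp (Nat.eq_one_of_dvd_coprimes (coprime_B_card m) h2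
    (orderOf_dvd_of_pow_eq_one hg)))

theorem aeval_iff_of_root {K : Type*} [Field K] [Algebra F K] {α : K} {g : G F m} (hτ : tr g ≠ 0)
    (hr : aeval α (pp (tr g)) = 0) (hα : α ^ ((2 ^ (2 * m + 1)) ^ 2 + 1) = 1) :
    Irreducible (pp (tr g)) ∧ ∀ r : F[X], aeval (mat g) r = 0 ↔ aeval α r = 0 := by
  have h1 := (root_facts hτ hr hα).1
  have hint : IsIntegral F α := ⟨pp (tr g), pp_monic _, by rwa [← aeval_def]⟩
  have hirr : Irreducible (pp (tr g)) := h1 ▸ minpoly.irreducible hint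
  refine ⟨hirr, fun r => ?_⟩
  rw [aeval_eq_zero_iff_dvd hirr (aeval_mat_pp g), ← h1, minpoly.dvd_iff]

theorem pow_eq_iff_of_root {K : Type*} [Field K] [Algebra F K] {α : K} {g : G F m}
    (hiff : ∀ r : F[X], aeval (mat g) r = 0 ↔ aeval α r = 0) (n : ℕ) : g ^ n = 1 ↔ α ^ n = 1 := by
  have := hiff (X ^ n - 1)
  simp only [map_sub, map_pow, aeval_X, map_one, sub_eq_zero] at this
  rw [← this, ← mat_pow, ← mat_one (m := m), mat_inj]

theorem FPF.exists_root {g : G F m} (hg : FPF g) : ∃ α : AlgebraicClosure F,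
    aeval α (pp (tr g)) = 0 ∧ α ^ ((2 ^ (2 * m + 1)) ^ 2 + 1) = 1 := by
  have hint : IsIntegral F (mat g) := Algebra.IsIntegral.isIntegral _
  obtain ⟨α, hα⟩ := IsAlgClosed.exists_aeval_eq_zero (AlgebraicClosure F) (minpoly F (mat g))
    (minpoly.degree_pos hint).ne'
  have key : ∀ r : F[X], aeval (mat g) r = 0 → aeval α r = 0 := fun r hr => by
    obtain ⟨s, rfl⟩ := minpoly.dvd F _ hr
    simp [hα]
  refine ⟨α, key _ (aeval_mat_pp g), ?_⟩
  have := key (X ^ ((2 ^ (2 * m + 1)) ^ 2 + 1) - 1) (by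
    simp only [map_sub, map_pow, aeval_X, map_one]
    rw [← mat_pow, hg.pow_eq_one, mat_one, sub_self])
  simpa [sub_eq_zero] using this

theorem FPF.pow_tp_or {g : G F m} (hg : FPF g) : g ^ tp m = 1 ∨ g ^ tm m = 1 := by
  obtain ⟨α, hr, hα⟩ := hg.exists_root
  have hiff := (aeval_iff_of_root hg.tr_ne_zero hr hα).2
  rw [pow_eq_iff_of_root hiff, pow_eq_iff_of_root hiff]
  exact (root_facts hg.tr_ne_zero hr hα).2.1

theorem FPF.exists_aeval {g c : G F m} (hg : FPF g) (hc : c * g = g * c) :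
    ∃ r : F[X], mat c = aeval (mat g) r := by
  obtain ⟨α, hr, hα⟩ := hg.exists_root
  exact exists_aeval_of_commute (aeval_iff_of_root hg.tr_ne_zero hr hα).1 (pp_natDegree _)
    (aeval_mat_pp g) (by rw [← mat_mul, hc, mat_mul])

theorem FPF.isCyclic_cent {g : G F m} (hg : FPF g) :
    IsCyclic (Subgroup.centralizer ({g} : Set (G F m))) := by
  obtain ⟨α, hr, hα⟩ := hg.exists_root
  have hiff := (aeval_iff_of_root hg.tr_ne_zero hr hα).2
  choose r hr using fun c : Subgroup.centralizer ({g} : Set (G F m)) =>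
    hg.exists_aeval (mem_cent.mp c.2)
  have key : ∀ a b : F[X], aeval (mat g) a = aeval (mat g) b ↔ aeval α a = aeval α b := by
    intro a b
    have := hiff (a - b)
    rwa [map_sub, map_sub, sub_eq_zero, sub_eq_zero] at this
  let χ : Subgroup.centralizer ({g} : Set (G F m)) →* AlgebraicClosure F :=
    { toFun := fun c => aeval α (r c)
      map_one' := by
        rw [← map_one (aeval (R := F) α), ← key, ← hr, map_one]; rfl
      map_mul' := fun a b => by
        rw [← map_mul, ← key, ← hr, map_mul, ← hr, ← hr]; rfl }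
  refine isCyclic_of_injective_ringHom χ fun a b hab => ?_
  have : aeval α (r a) = aeval α (r b) := hab
  rw [← key, ← hr, ← hr, mat_inj] at this
  exact Subtype.ext this

theorem FPF.eq_pow_of_tr_eq {g c : G F m} (hg : FPF g) (hc : c * g = g * c) (ht : tr c = tr g) :
    c = g ∨ c = g ^ 2 ^ (2 * m + 1) ∨ c = g ^ (2 ^ (2 * m + 1)) ^ 2 ∨
      c = g ^ (2 ^ (2 * m + 1)) ^ 3 := by
  obtain ⟨α, hr, hα⟩ := hg.exists_root
  have hiff := (aeval_iff_of_root hg.tr_ne_zero hr hα).2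
  obtain ⟨r, hcr⟩ := hg.exists_aeval hc
  have h1 : aeval (aeval α r) (pp (tr g)) = 0 := by
    rw [← aeval_comp, ← hiff, aeval_comp, ← hcr, ← ht, aeval_mat_pp]
  have key : ∀ n : ℕ, aeval α r = α ^ n → c = g ^ n := fun n hn => by
    have := (hiff (r - X ^ n)).mpr (by simp [hn])
    rw [map_sub, map_pow, aeval_X, sub_eq_zero, ← hcr, ← mat_pow, mat_inj] at this
    exact this
  rcases (root_facts hg.tr_ne_zero hr hα).2.2 _ h1 with h2 | h2 | h2 | h2
  · left; simpa using key 1 (by simpa using h2)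
  · exact Or.inr (Or.inl (key _ h2))
  · exact Or.inr (Or.inr (Or.inl (key _ h2)))
  · exact Or.inr (Or.inr (Or.inr (key _ h2)))

theorem comm_of_isCyclic {A : Type*} [Group A] {T : Subgroup A} (hT : IsCyclic T) {a b : A}
    (ha : a ∈ T) (hb : b ∈ T) : a * b = b * a := by
  let := hT.commGroup
  exact congrArg Subtype.val (mul_comm (⟨a, ha⟩ : T) ⟨b, hb⟩)

theorem FPF.cent_eq {g c : G F m} (hg : FPF g) (hc : c * g = g * c) (h1 : c ≠ 1) :
    Subgroup.centralizer ({c} : Set (G F m)) = Subgroup.centralizer {g} := by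
  ext x
  constructor
  · intro hx
    exact mem_cent.mpr (comm_of_isCyclic (hg.of_commute hc h1).isCyclic_cent hx
      (mem_cent.mpr hc.symm))
  · intro hx
    exact mem_cent.mpr (comm_of_isCyclic hg.isCyclic_cent hx (mem_cent.mpr hc))

theorem FPF.card_cent_dvd_or {g : G F m} (hg : FPF g) :
    Nat.card (Subgroup.centralizer ({g} : Set (G F m))) ∣ tp m ∨
      Nat.card (Subgroup.centralizer ({g} : Set (G F m))) ∣ tm m := by
  obtain ⟨⟨c, hc⟩, hc2⟩ := hg.isCyclic_cent.exists_ofOrder_eq_natCard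
  rw [← hc2, Subgroup.orderOf_mk]
  by_cases h1 : c = 1
  · simp [h1]
  · rcases (hg.of_commute (mem_cent.mp hc) h1).pow_tp_or with h2 | h2
    · exact Or.inl (orderOf_dvd_of_pow_eq_one h2)
    · exact Or.inr (orderOf_dvd_of_pow_eq_one h2)

include h in
theorem mem_range_of_pow_q {K : Type*} [Field K] [Algebra F K] {x : K}
    (hx : x ^ 2 ^ (2 * m + 1) = x) : ∃ y : F, algebraMap F K y = x := by
  have := Fintype.ofFinite F
  have hcard : Fintype.card F = 2 ^ (2 * m + 1) := by rw [← Nat.card_eq_fintype_card, card_F]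
  have h1 : 1 < Fintype.card F := Fintype.one_lt_card
  have hs : Splits (X ^ Fintype.card F - X : F[X]) := by
    rw [splits_iff_card_roots, FiniteField.roots_X_pow_card_sub_X, ← Finset.card_def,
      Finset.card_univ, FiniteField.X_pow_card_sub_X_natDegree_eq _ h1]
  have h2 := hs.roots_map (algebraMap F K)
  have h3 : x ∈ ((X ^ Fintype.card F - X : F[X]).map (algebraMap F K)).roots := by
    rw [mem_roots (by
      simpa using FiniteField.X_pow_card_sub_X_ne_zero K h1)]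
    simp [hcard, hx]
  rw [h2, Multiset.mem_map] at h3
  obtain ⟨y, -, hy⟩ := h3
  exact ⟨y, hy⟩

theorem exists_orderOf_eq {t : ℕ} (ht : t = tp m ∨ t = tm m) :
    ∃ b : F, orderOf (u 0 b * w : G F m) = t := by
  have hodd : Odd t := by rcases ht with rfl | rfl; exacts [odd_tp m, odd_tm m]
  have h5 : 5 ≤ t := by
    have := five_le_tm (one_le_m F)
    have := tm_lt_tp m
    omega
  have hdvd : t ∣ (2 ^ (2 * m + 1)) ^ 2 + 1 := by
    rw [← tp_mul_tm]
    rcases ht with rfl | rfl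
    exacts [Dvd.intro _ rfl, Dvd.intro_left _ rfl]
  have : NeZero (t : F) := ⟨by
    obtain ⟨k, rfl⟩ := hodd
    simp [two_eq_zero']⟩
  obtain ⟨α, hprim⟩ := HasEnoughRootsOfUnity.exists_primitiveRoot (AlgebraicClosure F) t
  have hα : α ^ ((2 ^ (2 * m + 1)) ^ 2 + 1) = 1 := (hprim.pow_eq_one_iff_dvd _).mpr hdvd
  have hα0 : α ≠ 0 := by rintro rfl; simp at hα
  have hα1 : α ≠ 1 := hprim.ne_one (by omega)
  have hfr : ∀ (n : ℕ) (x y : AlgebraicClosure F), (x + y) ^ 2 ^ n = x ^ 2 ^ n + y ^ 2 ^ n :=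
    fun n x y => add_pow_char_pow x y 2 n
  have h2 : (α ^ 2 ^ (2 * m + 1)) ^ 2 ^ (2 * m + 1) = α⁻¹ :=
    eq_inv_of_mul_eq_one_left (by rw [← pow_mul, ← sq, ← pow_succ, hα])
  have hβ0 : α ^ 2 ^ (2 * m + 1) ≠ 0 := pow_ne_zero _ hα0
  obtain ⟨τ, hτ⟩ := mem_range_of_pow_q (F := F)
    (x := α + α⁻¹ + (α ^ 2 ^ (2 * m + 1) + (α ^ 2 ^ (2 * m + 1))⁻¹)) (by
      simp only [hfr, inv_pow, h2, inv_inv]; ring)
  have hθ : algebraMap F _ (θ τ) =
      (α + α⁻¹) * (α ^ 2 ^ (2 * m + 1) + (α ^ 2 ^ (2 * m + 1))⁻¹) := by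
    have hβr : (α ^ 2 ^ (2 * m + 1)) ^ 2 ^ (m + 1) = (α ^ 2 ^ (m + 1)) ^ 2 ^ (2 * m + 1) := by
      rw [← pow_mul, ← pow_mul, mul_comm]
    rw [θ_def, map_pow, hτ]
    simp only [hfr, inv_pow, hβr]
    have h1 := hprim.pow_eq_one
    rcases ht with rfl | rfl
    · have h3 : α ^ 2 ^ (m + 1) = (α * α ^ 2 ^ (2 * m + 1))⁻¹ :=
        eq_inv_of_mul_eq_one_left (by rw [← h1, tp, pow_add, pow_add]; ring)
      rw [h3, inv_pow, mul_pow, h2]
      field_simp
      ring
    · have h3 : α ^ 2 ^ (m + 1) = α * α ^ 2 ^ (2 * m + 1) := by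
        rw [← pow_succ', ← tm_add_r, pow_add α, h1, one_mul]
      rw [h3, mul_pow, h2]
      field_simp
      ring
  have hr : aeval α (pp τ) = 0 := by
    rw [aeval_pp]
    simp only [Algebra.smul_def]
    rw [hτ, hθ, ← alg_fact2 (mul_inv_cancel₀ hα0) (mul_inv_cancel₀ hβ0), CharTwo.add_self_eq_zero]
    simp
  have hτ0 : τ ≠ 0 := by
    rintro rfl
    rw [aeval_pp] at hr
    simp only [zero_smul, θ_zero, add_zero] at hr
    have h4 : (α + 1) ^ 4 = 0 := by rw [← hr]; exact (hfr 2 α 1).trans (by norm_num)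
    exact hα1 (CharTwo.add_eq_zero.mp (pow_eq_zero_iff (by norm_num) |>.mp h4))
  refine ⟨φ τ, ?_⟩
  have ht' : tr (u 0 (φ τ) * w : G F m) = τ := by rw [tr_z_w, θ_φ]
  have hiff := (aeval_iff_of_root (g := u 0 (φ τ) * w) (by rwa [ht']) (by rwa [ht']) hα).2
  rw [hprim.eq_orderOf, orderOf_eq_orderOf_iff]
  exact pow_eq_iff_of_root hiff

theorem card_cent_of_orderOf {g : G F m} {t : ℕ} (ht : t = tp m ∨ t = tm m) (hg : orderOf g = t) :
    FPF g ∧ Subgroup.centralizer ({g} : Set (G F m)) = Subgroup.zpowers g := by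
  have h5 : 5 ≤ t := by
    have := five_le_tm (one_le_m F)
    have := tm_lt_tp m
    omega
  have hdvd : t ∣ (2 ^ (2 * m + 1)) ^ 2 + 1 := by
    rw [← tp_mul_tm]
    rcases ht with rfl | rfl
    exacts [Dvd.intro _ rfl, Dvd.intro_left _ rfl]
  have hf : FPF g := fpf_of_pow (by rintro rfl; simp at hg; omega)
    (orderOf_dvd_iff_pow_eq_one.mp (hg ▸ hdvd))
  refine ⟨hf, (Subgroup.eq_of_le_of_card_ge (Subgroup.zpowers_le.mpr (mem_cent.mpr rfl)) ?_).symm⟩
  rw [Nat.card_zpowers, hg]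
  have h1 : t ∣ Nat.card (Subgroup.centralizer ({g} : Set (G F m))) :=
    hg ▸ Subgroup.orderOf_dvd_natCard _ (mem_cent.mpr rfl)
  have hc := coprime_tp_tm m
  rcases ht with rfl | rfl <;> rcases hf.card_cent_dvd_or with h2 | h2
  · exact Nat.le_of_dvd (by omega) h2
  · have := Nat.eq_one_of_dvd_coprimes hc dvd_rfl (h1.trans h2); omega
  · have := Nat.eq_one_of_dvd_coprimes hc (h1.trans h2) dvd_rfl; omega
  · exact Nat.le_of_dvd (by omega) h2

theorem exists_conj_mem_zpowers {g g0 : G F m} {t : ℕ} (ht : t = tp m ∨ t = tm m)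
    (hg0 : orderOf g0 = t) (h1 : g ≠ 1) (hg : g ^ t = 1) :
    ∃ x : G F m, x⁻¹ * g * x ∈ Subgroup.zpowers g0 := by
  obtain ⟨hf, hc⟩ := card_cent_of_orderOf ht hg0
  have ho : orderOf g ≠ 1 := by simpa using h1
  obtain ⟨p, hp, hpo⟩ := Nat.exists_prime_and_dvd ho
  have : Fact p.Prime := ⟨hp⟩
  have hpt : p ∣ orderOf g0 := hg0 ▸ hpo.trans (orderOf_dvd_of_pow_eq_one hg)
  have hg' := orderOf_pow_orderOf_div (orderOf_pos g).ne' hpo
  have hy := orderOf_pow_orderOf_div (orderOf_pos g0).ne' hpt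
  set g' := g ^ (orderOf g / p) with hg'def
  set y := g0 ^ (orderOf g0 / p) with hydef
  have hpg : ∀ z : G F m, orderOf z = p → IsPGroup p (Subgroup.zpowers z) := fun z hz =>
    IsPGroup.of_card (n := 1) (by rw [Nat.card_zpowers, hz, pow_one])
  obtain ⟨P, hP⟩ := (hpg _ hg').exists_le_sylow
  obtain ⟨Q, hQ⟩ := (hpg _ hy).exists_le_sylow
  have hy1 : y ≠ 1 := by
    intro he; rw [he, orderOf_one] at hy; exact hp.one_lt.ne hy
  have hg1 : g' ≠ 1 := by
    intro he; rw [he, orderOf_one] at hg'; exact hp.one_lt.ne hg'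
  have hyQ : y ∈ (Q : Subgroup (G F m)) := hQ (Subgroup.mem_zpowers y)
  have hyc : y * g0 = g0 * y := by rw [hydef]; group
  have : Nontrivial (Q : Subgroup (G F m)) := ⟨⟨y, hyQ⟩, 1, fun he => hy1 (congrArg Subtype.val he)⟩
  have hnt := Q.isPGroup'.center_nontrivial
  obtain ⟨⟨⟨z, hzQ⟩, hz⟩, hz1⟩ := exists_ne (1 : Subgroup.center (Q : Subgroup (G F m)))
  have hz1' : z ≠ 1 := fun he => hz1 (Subtype.ext (Subtype.ext he))
  have hzc : ∀ a ∈ (Q : Subgroup (G F m)), a * z = z * a := fun a ha =>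
    congrArg Subtype.val (Subgroup.mem_center_iff.mp hz ⟨a, ha⟩)
  have hzg : z * g0 = g0 * z := by
    rw [← mem_cent, ← hf.cent_eq hyc hy1, mem_cent, hzc y hyQ]
  have hQle : ∀ a ∈ (Q : Subgroup (G F m)), a * g0 = g0 * a := fun a ha => by
    rw [← mem_cent, ← hf.cent_eq hzg hz1', mem_cent, hzc a ha]
  obtain ⟨x, hx⟩ := MulAction.exists_smul_eq (G F m) Q P
  have h2 : x⁻¹ * g' * x ∈ (Q : Subgroup (G F m)) := by
    have h3 : g' ∈ (P : Subgroup (G F m)) := hP (Subgroup.mem_zpowers g')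
    rw [← hx, Sylow.coe_subgroup_smul, Subgroup.mem_pointwise_smul_iff_inv_smul_mem] at h3
    simpa using h3
  have h3 : x⁻¹ * g' * x ≠ 1 := by
    intro he; apply hg1
    calc g' = x * (x⁻¹ * g' * x) * x⁻¹ := by group
      _ = 1 := by rw [he]; group
  refine ⟨x, ?_⟩
  rw [← hc, ← hf.cent_eq (hQle _ h2) h3, mem_cent, hg'def]
  group

theorem FPF.exists_conj {g : G F m} (hg : FPF g) : ∃ (t : ℕ) (b : F) (x : G F m),
    (t = tp m ∨ t = tm m) ∧ orderOf (u 0 b * w : G F m) = t ∧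
      x⁻¹ * g * x ∈ Subgroup.zpowers (u 0 b * w : G F m) := by
  rcases hg.pow_tp_or with h1 | h1
  · obtain ⟨b, hb⟩ := exists_orderOf_eq (F := F) (Or.inl rfl)
    obtain ⟨x, hx⟩ := exists_conj_mem_zpowers (Or.inl rfl) hb hg.ne_one h1
    exact ⟨_, b, x, Or.inl rfl, hb, hx⟩
  · obtain ⟨b, hb⟩ := exists_orderOf_eq (F := F) (Or.inr rfl)
    obtain ⟨x, hx⟩ := exists_conj_mem_zpowers (Or.inr rfl) hb hg.ne_one h1
    exact ⟨_, b, x, Or.inr rfl, hb, hx⟩

theorem FPF.exists_cent_eq {g : G F m} (hg : FPF g) : ∃ (t : ℕ) (b : F) (x : G F m),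
    (t = tp m ∨ t = tm m) ∧ orderOf (u 0 b * w : G F m) = t ∧
      Subgroup.centralizer ({x⁻¹ * g * x} : Set (G F m)) = Subgroup.zpowers (u 0 b * w : G F m) := by
  obtain ⟨t, b, x, ht, hb, hx⟩ := hg.exists_conj
  obtain ⟨hf, hc⟩ := card_cent_of_orderOf ht hb
  refine ⟨t, b, x, ht, hb, ?_⟩
  rw [← hc] at hx ⊢
  refine hf.cent_eq (mem_cent.mp hx) ?_
  simpa using (hg.conj x⁻¹).ne_one

theorem FPF.card_cent {g : G F m} (hg : FPF g) :
    Nat.card (Subgroup.centralizer ({g} : Set (G F m))) = tp m ∨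
      Nat.card (Subgroup.centralizer ({g} : Set (G F m))) = tm m := by
  obtain ⟨t, b, x, ht, hb, hx⟩ := hg.exists_cent_eq
  have := card_cent_conj x⁻¹ g
  rw [inv_inv, hx, Nat.card_zpowers, hb] at this
  rwa [← this]

/-! ### Semisimple elements -/

theorem ss_cases {g : G F m} (hg : tr g ≠ 0) :
    (∃ (x : G F m) (μ : Fˣ), μ ≠ 1 ∧ g = x * hh μ * x⁻¹) ∨ FPF g := by
  by_cases hf : FPF g
  · exact Or.inr hf
  · left
    obtain ⟨α, hα⟩ : ∃ α : Pt F m, g • α = α := by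
      by_contra hc; exact hf fun α hα => hc ⟨α, hα⟩
    obtain ⟨x, rfl⟩ := exists_smul_inf_eq α
    have hB : x⁻¹ * g * x ∈ B F := by rw [mem_B, mul_smul, mul_smul, hα, inv_smul_smul]
    rcases mem_B_cases hB with hU | ⟨μ, c, d, hμ, he⟩
    · exact absurd (by rw [← tr_conj' x, tr_eq_zero_of_mem_U hU]) hg
    · refine ⟨x * u c d, μ, hμ, ?_⟩
      calc g = x * (x⁻¹ * g * x) * x⁻¹ := by group
        _ = _ := by rw [he]; group

theorem isCyclic_H : IsCyclic (H F) :=
  isCyclic_of_surjective (hHom F).rangeRestrict (hHom F).rangeRestrict_surjective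

theorem ss_isCyclic {g : G F m} (hg : tr g ≠ 0) :
    IsCyclic (Subgroup.centralizer ({g} : Set (G F m))) := by
  rcases ss_cases hg with ⟨x, μ, hμ, rfl⟩ | hf
  · have : IsCyclic (Subgroup.centralizer ({hh μ} : Set (G F m))) := by
      rw [centralizer_hh hμ]; exact isCyclic_H
    exact isCyclic_of_surjective _ (centConjEquiv x (hh μ)).surjective
  · exact hf.isCyclic_cent

theorem card_cent_hh (x : G F m) {μ : Fˣ} (hμ : μ ≠ 1) :
    Nat.card (Subgroup.centralizer ({x * hh μ * x⁻¹} : Set (G F m))) = 2 ^ (2 * m + 1) - 1 := by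
  rw [card_cent_conj, centralizer_hh hμ, card_H]

theorem ss_card_cent {g : G F m} (hg : tr g ≠ 0) :
    Nat.card (Subgroup.centralizer ({g} : Set (G F m))) = 2 ^ (2 * m + 1) - 1 ∨
      Nat.card (Subgroup.centralizer ({g} : Set (G F m))) = tp m ∨
      Nat.card (Subgroup.centralizer ({g} : Set (G F m))) = tm m := by
  rcases ss_cases hg with ⟨x, μ, hμ, rfl⟩ | hf
  · exact Or.inl (card_cent_hh x hμ)
  · exact Or.inr hf.card_cent

theorem ss_odd_card_cent {g : G F m} (hg : tr g ≠ 0) :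
    Odd (Nat.card (Subgroup.centralizer ({g} : Set (G F m)))) := by
  rcases ss_card_cent hg with h1 | h1 | h1 <;> rw [h1]
  exacts [odd_q_sub_one, odd_tp m, odd_tm m]

theorem ss_odd_orderOf_of_commute {g c : G F m} (hg : tr g ≠ 0) (hc : c * g = g * c) :
    Odd (orderOf c) :=
  (ss_odd_card_cent hg).of_dvd_nat (Subgroup.orderOf_dvd_natCard _ (mem_cent.mpr hc))

theorem ss_odd_orderOf {g : G F m} (hg : tr g ≠ 0) : Odd (orderOf g) :=
  ss_odd_orderOf_of_commute hg rfl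

theorem tr_ne_zero_of_odd {g : G F m} (h1 : g ≠ 1) (hg : Odd (orderOf g)) : tr g ≠ 0 := by
  intro ht
  have h2 : orderOf g ∣ 2 ^ 2 := orderOf_dvd_of_pow_eq_one (pow_four_of_tr_eq_zero ht)
  exact h1 (orderOf_eq_one_iff.mp (Nat.eq_one_of_dvd_coprimes
    (Nat.Coprime.pow_right 2 (Nat.coprime_two_right.mpr hg)) dvd_rfl h2))

theorem ss_of_commute {g c : G F m} (hg : tr g ≠ 0) (hc : c * g = g * c) (h1 : c ≠ 1) :
    tr c ≠ 0 := tr_ne_zero_of_odd h1 (ss_odd_orderOf_of_commute hg hc)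

theorem ss_comm {g a b : G F m} (hg : tr g ≠ 0) (ha : a * g = g * a) (hb : b * g = g * b) :
    a * b = b * a := comm_of_isCyclic (ss_isCyclic hg) (mem_cent.mpr ha) (mem_cent.mpr hb)

theorem ss_cent_eq {g c : G F m} (hg : tr g ≠ 0) (hc : c * g = g * c) (h1 : c ≠ 1) :
    Subgroup.centralizer ({c} : Set (G F m)) = Subgroup.centralizer {g} := by
  ext x
  rw [mem_cent, mem_cent]
  exact ⟨fun hx => ss_comm (ss_of_commute hg hc h1) hx hc.symm, fun hx => ss_comm hg hx hc⟩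

theorem ss_exists_invol {g : G F m} (hg : tr g ≠ 0) :
    ∃ j : G F m, j * j = 1 ∧ ∀ c : G F m, c * g = g * c → j * c * j⁻¹ = c⁻¹ := by
  have key : ∀ (x g0 : G F m), (∀ c : G F m, c * g0 = g0 * c → w * c * w⁻¹ = c⁻¹) →
      ∃ j : G F m, j * j = 1 ∧
        ∀ c : G F m, c * (x * g0 * x⁻¹) = x * g0 * x⁻¹ * c → j * c * j⁻¹ = c⁻¹ := by
    intro x g0 h0
    refine ⟨x * w * x⁻¹, by rw [conj_mul, w_mul_w]; simp, fun c hc => ?_⟩
    have := h0 _ (mem_cent.mp (mem_cent_conj.mp (mem_cent.mpr hc)))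
    calc x * w * x⁻¹ * c * (x * w * x⁻¹)⁻¹ = x * (w * (x⁻¹ * c * x) * w⁻¹) * x⁻¹ := by group
      _ = c⁻¹ := by rw [this]; group
  rcases ss_cases hg with ⟨x, μ, hμ, rfl⟩ | hf
  · apply key
    intro c hc
    rw [← mem_cent, centralizer_hh hμ, mem_H] at hc
    obtain ⟨ν, rfl⟩ := hc
    rw [w_mul_hh, mul_inv_cancel_right, hh_inv]
  · obtain ⟨t, b, x, -, -, hx⟩ := hf.exists_cent_eq
    have := key x (x⁻¹ * g * x) (fun c hc => by
      rw [← mem_cent, hx] at hc
      obtain ⟨n, rfl⟩ := hc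
      have h2 : (w * (u 0 b * w) * w⁻¹ : G F m) = (u 0 b * w)⁻¹ := by
        rw [_root_.mul_inv_rev, u_inv]; simp [mul_assoc]
      simp only
      rw [← conj_zpow, h2, _root_.inv_zpow])
    simpa [mul_assoc] using this

theorem isConj_z_w {g : G F m} (hg : tr g ≠ 0) : IsConj (u 0 (φ (tr g)) * w) g := by
  obtain ⟨j, hj, hc⟩ := ss_exists_invol hg
  have h1 : j * (j * g) = g := by rw [← mul_assoc, hj, one_mul]
  have h2 : j * g * (j * g) = 1 := by
    have := hc g rfl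
    rw [inv_eq_of_mul_eq_one_right hj] at this
    rw [← mul_assoc, this, inv_mul_cancel]
  have := isConj_z_w_of_invol hj h2 (by rwa [h1])
  rwa [h1] at this

theorem isConj_of_tr_eq {g k : G F m} (hg : tr g ≠ 0) (he : tr g = tr k) : IsConj g k :=
  (isConj_z_w hg).symm.trans (he ▸ isConj_z_w (he ▸ hg))

end Cfsg.Agent.Suz
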