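import Cfsg.Agent.Lib.Suz.Basic

/-! The Suzuki group: Bruhat decomposition, orders, fixed points, traces. -/

set_option autoImplicit false

namespace Cfsg.Agent.Suz

open Matrix MulAction

variable {F : Type*} [Field F] {m : ℕ} [h : SuzF F m]

theorem col_of_fix_inf {g : G F m} (h1 : g • (inf : Pt F m) = inf) :
    mat g 1 0 = 0 ∧ mat g 2 0 = 0 ∧ mat g 3 0 = 0 := by
  obtain ⟨c, hc⟩ := (smul_mkPt_eq_iff g _ _).mp h1
  have e1 := congrFun hc 1
  have e2 := congrFun hc 2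
  have e3 := congrFun hc 3
  simp [vinf, mulVec, dotProduct, Fin.sum_univ_four] at e1 e2 e3
  exact ⟨e1.symm, e2.symm, e3.symm⟩

theorem col_of_fix_zero {g : G F m} (h2 : g • (pt 0 0 : Pt F m) = pt 0 0) :
    mat g 0 3 = 0 ∧ mat g 1 3 = 0 ∧ mat g 2 3 = 0 := by
  obtain ⟨c, hc⟩ := (smul_mkPt_eq_iff g _ _).mp h2
  have e1 := congrFun hc 0
  have e2 := congrFun hc 1
  have e3 := congrFun hc 2
  simp [vec, mulVec, dotProduct, Fin.sum_univ_four] at e1 e2 e3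
  exact ⟨e1.symm, e2.symm, e3.symm⟩

theorem exists_vec_of_fix_inf {g : G F m} (h1 : g • (inf : Pt F m) = inf) (x y : F) :
    ∃ e x' y' : F, e ≠ 0 ∧ e • vec x' y' = mat g *ᵥ vec x y := by
  have hne : g • (pt x y : Pt F m) ≠ inf := by
    rw [← h1]; intro he; exact pt_ne_inf x y (smul_left_cancel g he)
  obtain ⟨x', y', he⟩ := exists_eq_pt hne
  obtain ⟨e, he⟩ := (smul_mkPt_eq_iff g _ _).mp he
  refine ⟨e, x', y', ?_, he⟩
  rintro rfl
  exact (onO_mulVec g (onO_vec x y)).ne_zero (by rw [← he, zero_smul])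

theorem row_of_fix_inf {g : G F m} (h1 : g • (inf : Pt F m) = inf) :
    mat g 3 1 = 0 ∧ mat g 3 2 = 0 := by
  obtain ⟨-, -, c3⟩ := col_of_fix_inf h1
  have key : ∀ x y : F, mat g 3 1 * y + mat g 3 2 * x + mat g 3 3 ≠ 0 := by
    intro x y
    obtain ⟨e, x', y', he0, he⟩ := exists_vec_of_fix_inf h1 x y
    have e3 := congrFun he 3
    simp [vec, mulVec, dotProduct, Fin.sum_univ_four, c3] at e3
    rw [← e3]; exact he0
  constructor
  · by_contra hne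
    apply key 0 (mat g 3 3 / mat g 3 1)
    field_simp
    grind
  · by_contra hne
    apply key (mat g 3 3 / mat g 3 2) 0
    field_simp
    grind

theorem eq_hh_of_fix {g : G F m} (h1 : g • (inf : Pt F m) = inf)
    (h2 : g • (pt 0 0 : Pt F m) = pt 0 0) : ∃ μ : Fˣ, g = hh μ := by
  obtain ⟨c1, c2, c3⟩ := col_of_fix_inf h1
  obtain ⟨d0, d1, d2⟩ := col_of_fix_zero h2
  obtain ⟨r1, r2⟩ := row_of_fix_inf h1
  have hw : (w * g * w : G F m) • (inf : Pt F m) = inf := by simp [mul_smul, h2]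
  obtain ⟨s1, s2⟩ := row_of_fix_inf hw
  simp only [mat_mul, mat_w, Matrix.mul_apply, Fin.sum_univ_four] at s1 s2
  simp [wM] at s1 s2
  have hdet := det_mat g
  have key : ∀ x y : F, ∃ x' y' : F, mat g 3 3 * ff x' y' = mat g 0 0 * ff x y ∧
      mat g 3 3 * y' = mat g 1 1 * y + mat g 1 2 * x ∧
      mat g 3 3 * x' = mat g 2 1 * y + mat g 2 2 * x := by
    intro x y
    obtain ⟨e, x', y', he0, he⟩ := exists_vec_of_fix_inf h1 x y
    have e0 := congrFun he 0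
    have e1 := congrFun he 1
    have e2 := congrFun he 2
    have e3 := congrFun he 3
    simp [vec, mulVec, dotProduct, Fin.sum_univ_four, c1, c2, c3, d0, d1, d2, r1, r2, s1, s2]
      at e0 e1 e2 e3
    subst e3
    exact ⟨x', y', e0, e1, e2⟩
  simp [det_succ_row_zero, Fin.sum_univ_succ, Fin.succAbove, c1, c2, c3, d0, d1, d2, r1, r2, s1,
    s2] at hdet
  have hd : mat g 3 3 ≠ 0 := by
    intro h0; rw [h0] at hdet; simp at hdet
  set d := mat g 3 3 with hdd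
  obtain ⟨c, hc⟩ : ∃ c, mat g 0 0 = d * c := ⟨mat g 0 0 / d, by field_simp⟩
  obtain ⟨α, hα⟩ : ∃ c, mat g 1 1 = d * c := ⟨mat g 1 1 / d, by field_simp⟩
  obtain ⟨β, hβ⟩ : ∃ c, mat g 1 2 = d * c := ⟨mat g 1 2 / d, by field_simp⟩
  obtain ⟨γ, hγ⟩ : ∃ c, mat g 2 1 = d * c := ⟨mat g 2 1 / d, by field_simp⟩
  obtain ⟨δ, hδ⟩ : ∃ c, mat g 2 2 = d * c := ⟨mat g 2 2 / d, by field_simp⟩
  have key2 : ∀ x y : F, ff (γ * y + δ * x) (α * y + β * x) = c * ff x y := by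
    intro x y
    obtain ⟨x', y', e0, e1, e2⟩ := key x y
    rw [hc] at e0; rw [hα, hβ] at e1; rw [hγ, hδ] at e2
    have hy : y' = α * y + β * x := mul_left_cancel₀ hd (by rw [e1]; ring)
    have hx : x' = γ * y + δ * x := mul_left_cancel₀ hd (by rw [e2]; ring)
    rw [← hx, ← hy]
    exact mul_left_cancel₀ hd (by rw [e0]; ring)
  obtain ⟨-, i2, i3⟩ := indep3 (a := γ * α) (b := θ α + c) (c := θ γ * γ ^ 2) (fun y => by
    have := key2 0 y
    simp only [ff, θ_add, θ_mul, θ_zero] at this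
    grind)
  obtain ⟨-, j2, j3⟩ := indep3 (a := δ * β) (b := θ β) (c := θ δ * δ ^ 2 + c) (fun x => by
    have := key2 x 0
    simp only [ff, θ_add, θ_mul, θ_zero] at this
    grind)
  have hγ0 : γ = 0 := by simpa using i3
  have hβ0 : β = 0 := by simpa using j2
  subst hγ0 hβ0
  have hc1 : c = θ δ * δ ^ 2 := by grind
  have hα1 : α = δ * θ δ := θ_injective (by simp only [θ_mul, θ_θ]; grind)
  rw [hc, hα, hβ, hγ, hδ, hc1, hα1] at hdet
  have hδ0 : δ ≠ 0 := by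
    intro h0; rw [h0] at hdet; simp at hdet
  have hθ := φ_sq δ
  have hφ := φ_ne_zero hδ0
  have hd1 : d * (φ δ * δ) = 1 := by
    apply sq_eq_one'
    apply sq_eq_one'
    rw [← hdet, ← hθ]; ring
  have hd2 : d = (φ δ * δ)⁻¹ := eq_inv_of_mul_eq_one_left hd1
  refine ⟨Units.mk0 δ hδ0, mat_injective ?_⟩
  rw [mat_hh]
  ext i j
  fin_cases i <;> fin_cases j <;>
    simp [hM, c1, c2, c3, d0, d1, d2, r1, r2, s1, s2, hc, hα, hβ, hγ, hδ, ← hdd, hc1, hα1, hd2,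
      ← hθ] <;> field_simp

/-- The unipotent subgroup. -/
def U (F : Type*) [Field F] {m : ℕ} [SuzF F m] : Subgroup (G F m) where
  carrier := {g | ∃ a b : F, g = u a b}
  mul_mem' := by
    rintro _ _ ⟨a, b, rfl⟩ ⟨c, d, rfl⟩
    exact ⟨_, _, u_mul_u a b c d⟩
  one_mem' := ⟨0, 0, u_zero_zero.symm⟩
  inv_mem' := by
    rintro _ ⟨a, b, rfl⟩
    exact ⟨_, _, u_inv a b⟩

/-- The centre of the unipotent subgroup. -/
def Z (F : Type*) [Field F] {m : ℕ} [SuzF F m] : Subgroup (G F m) where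
  carrier := {g | ∃ b : F, g = u 0 b}
  mul_mem' := by
    rintro _ _ ⟨b, rfl⟩ ⟨d, rfl⟩
    exact ⟨b + d, by simp [u_mul_u]⟩
  one_mem' := ⟨0, u_zero_zero.symm⟩
  inv_mem' := by
    rintro _ ⟨b, rfl⟩
    exact ⟨b, by simp [u_inv]⟩

/-- The diagonal subgroup. -/
def H (F : Type*) [Field F] {m : ℕ} [SuzF F m] : Subgroup (G F m) := (hHom F).range

/-- The Borel subgroup. -/
def B (F : Type*) [Field F] {m : ℕ} [SuzF F m] : Subgroup (G F m) :=
  stabilizer (G F m) (inf : Pt F m)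

theorem mem_U {g : G F m} : g ∈ U F ↔ ∃ a b : F, g = u a b := Iff.rfl
theorem mem_Z {g : G F m} : g ∈ Z F ↔ ∃ b : F, g = u 0 b := Iff.rfl
theorem mem_H {g : G F m} : g ∈ H F ↔ ∃ μ : Fˣ, g = hh μ :=
  ⟨fun ⟨μ, hμ⟩ => ⟨μ, hμ.symm⟩, fun ⟨μ, hμ⟩ => ⟨μ, hμ.symm⟩⟩
theorem mem_B {g : G F m} : g ∈ B F ↔ g • (inf : Pt F m) = inf := Iff.rfl

@[simp] theorem u_mem_U (a b : F) : (u a b : G F m) ∈ U F := ⟨a, b, rfl⟩
@[simp] theorem u_mem_Z (b : F) : (u 0 b : G F m) ∈ Z F := ⟨b, rfl⟩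
@[simp] theorem hh_mem_H (μ : Fˣ) : (hh μ : G F m) ∈ H F := ⟨μ, rfl⟩
@[simp] theorem u_mem_B (a b : F) : (u a b : G F m) ∈ B F := u_smul_inf a b
@[simp] theorem hh_mem_B (μ : Fˣ) : (hh μ : G F m) ∈ B F := hh_smul_inf μ
theorem w_not_mem_B : (w : G F m) ∉ B F := by simp [mem_B]

theorem Z_le_U : Z F ≤ U F := by rintro _ ⟨b, rfl⟩; simp
theorem U_le_B : U F ≤ B F := by rintro _ ⟨a, b, rfl⟩; simp
theorem H_le_B : H F ≤ B F := by rintro _ ⟨μ, rfl⟩; simp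

theorem u_smul_zero (x y : F) : (u x y : G F m) • (pt 0 0 : Pt F m) = pt x y := by simp

theorem mem_H_iff_fix {g : G F m} :
    g ∈ H F ↔ g • (inf : Pt F m) = inf ∧ g • (pt 0 0 : Pt F m) = pt 0 0 := by
  rw [mem_H]
  constructor
  · rintro ⟨μ, rfl⟩; simp
  · rintro ⟨h1, h2⟩; exact eq_hh_of_fix h1 h2

theorem mem_B_iff {g : G F m} : g ∈ B F ↔ ∃ (a b : F) (μ : Fˣ), g = u a b * hh μ := by
  constructor
  · intro h1
    rw [mem_B] at h1
    have hne : g • (pt 0 0 : Pt F m) ≠ inf := by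
      rw [← h1]; intro he; exact pt_ne_inf 0 0 (smul_left_cancel g he)
    obtain ⟨a, b, he⟩ := exists_eq_pt hne
    obtain ⟨μ, hμ⟩ := eq_hh_of_fix (g := (u a b)⁻¹ * g)
      (by rw [mul_smul, h1, inv_smul_eq_iff, u_smul_inf])
      (by rw [mul_smul, he, inv_smul_eq_iff, u_smul_zero])
    exact ⟨a, b, μ, by rw [← hμ, mul_inv_cancel_left]⟩
  · rintro ⟨a, b, μ, rfl⟩
    exact mul_mem (u_mem_B a b) (hh_mem_B μ)

theorem u_mul_hh_inj {a b c d : F} {μ ν : Fˣ} :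
    (u a b * hh μ : G F m) = u c d * hh ν ↔ a = c ∧ b = d ∧ μ = ν := by
  constructor
  · intro he
    have h1 := congrArg (fun g : G F m => g • (pt 0 0 : Pt F m)) he
    simp [mul_smul] at h1
    obtain ⟨rfl, rfl⟩ := h1
    exact ⟨rfl, rfl, hh_inj.mp (mul_left_cancel he)⟩
  · rintro ⟨rfl, rfl, rfl⟩; rfl

theorem bruhat {g : G F m} (hg : g ∉ B F) :
    ∃ (a b : F) (μ : Fˣ) (c d : F), g = u a b * hh μ * w * u c d := by
  have hne : g⁻¹ • (inf : Pt F m) ≠ inf := fun he => hg (inv_mem_iff.mp he)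
  obtain ⟨x, y, he⟩ := exists_eq_pt hne
  have h1 : g * u x y * w ∈ B F := by
    rw [mem_B, mul_smul, mul_smul, w_smul_inf, u_smul_zero, ← he, smul_inv_smul]
  obtain ⟨a, b, μ, h2⟩ := mem_B_iff.mp h1
  refine ⟨a, b, μ, x, y + x * θ x, ?_⟩
  rw [← u_inv, ← h2, mul_assoc _ w w, w_mul_w, mul_one, mul_inv_cancel_right]

theorem exists_smul_inf_eq (α : Pt F m) : ∃ g : G F m, g • (inf : Pt F m) = α := by
  rcases pt_cases α with rfl | ⟨x, y, rfl⟩
  · exact ⟨1, one_smul _ _⟩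
  · exact ⟨u x y * w, by simp [mul_smul]⟩

theorem exists_smul_eq_inf (α : Pt F m) : ∃ g : G F m, g • α = inf := by
  obtain ⟨g, rfl⟩ := exists_smul_inf_eq α
  exact ⟨g⁻¹, inv_smul_smul _ _⟩

theorem exists_smul_pair {α β : Pt F m} (hne : α ≠ β) :
    ∃ g : G F m, g • (inf : Pt F m) = α ∧ g • (pt 0 0 : Pt F m) = β := by
  obtain ⟨g, rfl⟩ := exists_smul_inf_eq α
  have : g⁻¹ • β ≠ inf := by
    intro he; apply hne; rw [← he, smul_inv_smul]
  obtain ⟨x, y, he⟩ := exists_eq_pt this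
  exact ⟨g * u x y, by simp [mul_smul], by rw [mul_smul, u_smul_zero, ← he, smul_inv_smul]⟩

instance isPretransitive_Pt : IsPretransitive (G F m) (Pt F m) where
  exists_smul_eq α β := by
    obtain ⟨g, rfl⟩ := exists_smul_inf_eq α
    obtain ⟨k, rfl⟩ := exists_smul_inf_eq β
    exact ⟨k * g⁻¹, by rw [mul_smul, inv_smul_smul]⟩

/-- Generation principle. -/
theorem eq_top_of_mem {M : Subgroup (G F m)} (hU : ∀ a b : F, u a b ∈ M)
    (hH : ∀ μ : Fˣ, hh μ ∈ M) (hw : w ∈ M) : M = ⊤ := by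
  rw [eq_top_iff]
  intro g _
  by_cases hg : g ∈ B F
  · obtain ⟨a, b, μ, rfl⟩ := mem_B_iff.mp hg
    exact mul_mem (hU a b) (hH μ)
  · obtain ⟨a, b, μ, c, d, rfl⟩ := bruhat hg
    exact mul_mem (mul_mem (mul_mem (hU a b) (hH μ)) hw) (hU c d)

theorem induction_gen {P : G F m → Prop} (hU : ∀ a b : F, P (u a b)) (hH : ∀ μ : Fˣ, P (hh μ))
    (hw : P w) (hmul : ∀ x y, P x → P y → P (x * y)) (g : G F m) : P g := by
  by_cases hg : g ∈ B F
  · obtain ⟨a, b, μ, rfl⟩ := mem_B_iff.mp hg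
    exact hmul _ _ (hU a b) (hH μ)
  · obtain ⟨a, b, μ, c, d, rfl⟩ := bruhat hg
    exact hmul _ _ (hmul _ _ (hmul _ _ (hU a b) (hH μ)) hw) (hU c d)

/-! ### Cardinalities -/

theorem card_Pt : Nat.card (Pt F m) = (2 ^ (2 * m + 1)) ^ 2 + 1 := by
  let f : Option (F × F) → Pt F m := fun o => o.elim inf (fun p => pt p.1 p.2)
  have hf : Function.Bijective f := by
    constructor
    · rintro (_ | ⟨x, y⟩) (_ | ⟨x', y'⟩) he
      · rfl
      · simp [f] at he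
      · simp [f] at he
      · simp [f] at he; rw [he.1, he.2]
    · intro α
      rcases pt_cases α with rfl | ⟨x, y, rfl⟩
      · exact ⟨none, rfl⟩
      · exact ⟨some (x, y), rfl⟩
  rw [← Nat.card_eq_of_bijective f hf, Finite.card_option, Nat.card_prod, card_F, sq]

theorem card_units_F : Nat.card Fˣ = 2 ^ (2 * m + 1) - 1 := by
  rw [Nat.card_units, card_F]

theorem card_U : Nat.card (U F) = (2 ^ (2 * m + 1)) ^ 2 := by
  let f : F × F → U F := fun p => ⟨u p.1 p.2, u_mem_U _ _⟩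
  have hf : Function.Bijective f := by
    constructor
    · rintro ⟨x, y⟩ ⟨x', y'⟩ he
      have := u_inj.mp (congrArg Subtype.val he)
      exact Prod.ext this.1 this.2
    · rintro ⟨_, a, b, rfl⟩
      exact ⟨(a, b), rfl⟩
  rw [← Nat.card_eq_of_bijective f hf, Nat.card_prod, card_F, sq]

theorem card_Z : Nat.card (Z F) = 2 ^ (2 * m + 1) := by
  let f : F → Z F := fun p => ⟨u 0 p, u_mem_Z _⟩
  have hf : Function.Bijective f := by
    constructor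
    · rintro x y he
      exact (u_inj.mp (congrArg Subtype.val he)).2
    · rintro ⟨_, b, rfl⟩
      exact ⟨b, rfl⟩
  rw [← Nat.card_eq_of_bijective f hf, card_F]

theorem card_H : Nat.card (H F) = 2 ^ (2 * m + 1) - 1 := by
  rw [← card_units_F (F := F)]
  exact (Nat.card_congr (MonoidHom.ofInjective (hHom_injective (F := F))).toEquiv).symm

theorem card_B : Nat.card (B F) = (2 ^ (2 * m + 1)) ^ 2 * (2 ^ (2 * m + 1) - 1) := by
  let f : (F × F) × Fˣ → B F := fun p => ⟨u p.1.1 p.1.2 * hh p.2, mul_mem (by simp) (by simp)⟩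
  have hf : Function.Bijective f := by
    constructor
    · rintro ⟨⟨x, y⟩, μ⟩ ⟨⟨x', y'⟩, ν⟩ he
      obtain ⟨h1, h2, h3⟩ := u_mul_hh_inj.mp (congrArg Subtype.val he)
      simp only at h1 h2 h3
      rw [h1, h2, h3]
    · rintro ⟨g, hg⟩
      obtain ⟨a, b, μ, rfl⟩ := mem_B_iff.mp hg
      exact ⟨((a, b), μ), rfl⟩
  rw [← Nat.card_eq_of_bijective f hf, Nat.card_prod, Nat.card_prod, card_F, card_units_F, sq]

theorem index_B : (B F).index = (2 ^ (2 * m + 1)) ^ 2 + 1 := by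
  rw [B, index_stabilizer_of_transitive, card_Pt]

theorem card_G : Nat.card (G F m) =
    (2 ^ (2 * m + 1)) ^ 2 * (2 ^ (2 * m + 1) - 1) * ((2 ^ (2 * m + 1)) ^ 2 + 1) := by
  rw [← (B F).card_mul_index, card_B, index_B]

/-! ### Fixed points -/

theorem eq_one_of_mem_U_of_fix {g : G F m} (hg : g ∈ U F) {α : Pt F m} (hα : α ≠ inf)
    (he : g • α = α) : g = 1 := by
  obtain ⟨a, b, rfl⟩ := hg
  obtain ⟨x, y, rfl⟩ := exists_eq_pt hα
  rw [u_smul_pt, pt_inj] at he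
  have ha : a = 0 := by simpa using he.1
  subst ha
  have hb : b = 0 := by simpa using he.2
  subst hb
  simp

theorem eq_inf_of_mem_U {g : G F m} (hg : g ∈ U F) (h1 : g ≠ 1) {α : Pt F m}
    (he : g • α = α) : α = inf := by
  by_contra hα
  exact h1 (eq_one_of_mem_U_of_fix hg hα he)

theorem hh_fix_pt {μ : Fˣ} (hμ : μ ≠ 1) {x y : F}
    (he : (hh μ : G F m) • (pt x y : Pt F m) = pt x y) : x = 0 ∧ y = 0 := by
  rw [hh_smul_pt, pt_inj] at he
  have h1 : (μ : F) ≠ 1 := fun h => hμ (Units.ext h)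
  have h2 : (μ : F) * θ (μ : F) ≠ 1 := fun h => h1 (nm_eq_one.mp h)
  constructor
  · by_contra hx
    exact h1 (mul_right_cancel₀ hx (by rw [he.1, one_mul]))
  · by_contra hy
    exact h2 (mul_right_cancel₀ hy (by rw [he.2, one_mul]))

theorem hh_fix {μ : Fˣ} (hμ : μ ≠ 1) {α : Pt F m} (he : (hh μ : G F m) • α = α) :
    α = inf ∨ α = pt 0 0 := by
  rcases pt_cases α with rfl | ⟨x, y, rfl⟩
  · exact Or.inl rfl
  · obtain ⟨rfl, rfl⟩ := hh_fix_pt hμ he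
    exact Or.inr rfl

theorem eq_one_of_fix_three {g : G F m} {α β γ : Pt F m} (h1 : α ≠ β) (h2 : α ≠ γ) (h3 : β ≠ γ)
    (ha : g • α = α) (hb : g • β = β) (hc : g • γ = γ) : g = 1 := by
  obtain ⟨x, rfl, rfl⟩ := exists_smul_pair h1
  obtain ⟨μ, hμ⟩ := eq_hh_of_fix (g := x⁻¹ * g * x)
    (by rw [mul_smul, mul_smul, ha, inv_smul_smul]) (by rw [mul_smul, mul_smul, hb, inv_smul_smul])
  by_cases hμ1 : μ = 1
  · subst hμ1
    rw [hh_one] at hμ
    have : g = x * (x⁻¹ * g * x) * x⁻¹ := by group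
    rw [this, hμ]; group
  · have : (hh μ : G F m) • (x⁻¹ • γ) = x⁻¹ • γ := by
      rw [← hμ, mul_smul, mul_smul, smul_inv_smul, hc]
    rcases hh_fix hμ1 this with he | he
    · exact absurd (by rw [← he, smul_inv_smul]) h2
    · exact absurd (by rw [← he, smul_inv_smul]) h3

theorem eq_one_of_fix_all {g : G F m} (hg : ∀ α : Pt F m, g • α = α) : g = 1 :=
  eq_one_of_fix_three (α := inf) (β := pt 0 0) (γ := pt 1 0) (by simp) (by simp) (by simp)
    (hg _) (hg _) (hg _)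

theorem eq_of_smul_eq {g k : G F m} (hg : ∀ α : Pt F m, g • α = k • α) : g = k := by
  have : k⁻¹ * g = 1 := eq_one_of_fix_all fun α => by rw [mul_smul, hg, inv_smul_smul]
  exact (inv_mul_eq_one.mp this).symm

/-! ### Conjugation into standard forms -/

theorem u_mul_hh_conj (a b : F) {μ : Fˣ} (hμ : μ ≠ 1) :
    ∃ c d : F, (u a b * hh μ : G F m) = u c d * hh μ * (u c d)⁻¹ := by
  have h1 : (μ : F) ≠ 1 := fun h => hμ (Units.ext h)
  have h2 : (μ : F) * θ (μ : F) ≠ 1 := fun h => h1 (nm_eq_one.mp h)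
  have h1' : 1 + (μ : F) ≠ 0 := by grind
  have h2' : 1 + (μ : F) * θ (μ : F) ≠ 0 := by grind
  obtain ⟨c, hc⟩ : ∃ c, (1 + (μ : F)) * c = a := ⟨a / (1 + μ), by field_simp⟩
  obtain ⟨d, hd⟩ : ∃ d, (1 + (μ : F) * θ (μ : F)) * d = b + θ a * (μ * c) :=
    ⟨(b + θ a * (μ * c)) / (1 + (μ : F) * θ (μ : F)), by field_simp⟩
  refine ⟨c, d, ?_⟩
  rw [eq_mul_inv_iff_mul_eq, mul_assoc, hh_mul_u, ← mul_assoc, u_mul_u, u_mul_hh_inj]
  refine ⟨by grind, by grind, rfl⟩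

theorem mem_B_cases {g : G F m} (hg : g ∈ B F) :
    g ∈ U F ∨ ∃ (μ : Fˣ) (c d : F), μ ≠ 1 ∧ g = u c d * hh μ * (u c d)⁻¹ := by
  obtain ⟨a, b, μ, rfl⟩ := mem_B_iff.mp hg
  by_cases hμ : μ = 1
  · left; simp [hμ]
  · right
    obtain ⟨c, d, he⟩ := u_mul_hh_conj (m := m) a b hμ
    exact ⟨μ, c, d, hμ, he⟩

include h in
theorem exists_unit_sq (μ : Fˣ) : ∃ ν : Fˣ, ν * ν = μ := by
  obtain ⟨y, hy⟩ := exists_sq_eq (μ : F)
  have hy0 : y ≠ 0 := by rintro rfl; exact μ.ne_zero (by simpa using hy.symm)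
  exact ⟨Units.mk0 y hy0, Units.ext (by simpa [sq] using hy)⟩

theorem hh_conj_w (ν : Fˣ) : (hh ν * w * (hh ν)⁻¹ : G F m) = hh (ν * ν) * w := by
  rw [hh_inv, mul_assoc, w_mul_hh, inv_inv, ← mul_assoc, hh_mul_hh]

theorem not_mem_B_conj {g : G F m} (hg : g ∉ B F) :
    ∃ x ∈ B F, ∃ a b : F, g = x * (u a b * w) * x⁻¹ := by
  obtain ⟨a, b, μ, c, d, rfl⟩ := bruhat hg
  obtain ⟨ν, rfl⟩ := exists_unit_sq μ
  obtain ⟨a', b', he⟩ : (hh ν)⁻¹ * (u c d * u a b) * hh ν ∈ U F := by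
    rw [u_mul_u, hh_inv, hh_mul_u, mul_assoc, hh_mul_hh]; simp
  refine ⟨(u c d)⁻¹ * hh ν, mul_mem (inv_mem (by simp)) (by simp), a', b', ?_⟩
  rw [← he, mul_assoc (u a b), ← hh_conj_w]
  group

end Cfsg.Agent.Suz
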