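import Mathlib

/-! Fields with `2^(2m+1)` elements and their Tits endomorphism. -/

set_option autoImplicit false

namespace Cfsg.Agent.Suz

/-- A finite field with `2^(2m+1)` elements, `m ≥ 1`. -/
class SuzF (F : Type*) [Field F] (m : outParam ℕ) : Prop where
  fin : Finite F
  card : Nat.card F = 2 ^ (2 * m + 1)
  one_le : 1 ≤ m

theorem SuzF.of_card {F : Type*} [Field F] [Fintype F] {m : ℕ} (hm : 1 ≤ m)
    (hF : Fintype.card F = 2 ^ (2 * m + 1)) : SuzF F m :=
  ⟨inferInstance, by rw [Nat.card_eq_fintype_card, hF], hm⟩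

variable {F : Type*} [Field F] {m : ℕ}

scoped instance (priority := 100) suzFinite [h : SuzF F m] : Finite F := h.fin

scoped instance suzCharP [h : SuzF F m] : CharP F 2 := by
  have := Fintype.ofFinite F
  have : Fact (Nat.Prime 2) := ⟨Nat.prime_two⟩
  exact charP_of_card_eq_prime_pow (f := 2 * m + 1) (by rw [← Nat.card_eq_fintype_card, h.card])

/-- The Tits endomorphism `x ↦ x^(2^(m+1))`. -/
def θ [SuzF F m] (x : F) : F := x ^ 2 ^ (m + 1)

/-- The inverse of the Tits endomorphism `x ↦ x^(2^m)`. -/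
def φ [SuzF F m] (x : F) : F := x ^ 2 ^ m

variable [h : SuzF F m]

include h in
theorem card_F : Nat.card F = 2 ^ (2 * m + 1) := h.card

theorem one_le_m (F : Type*) [Field F] {m : ℕ} [h : SuzF F m] : 1 ≤ m := h.one_le

include h in
theorem pow_q (x : F) : x ^ 2 ^ (2 * m + 1) = x := by
  have := Fintype.ofFinite F
  have := FiniteField.pow_card x
  rwa [← Nat.card_eq_fintype_card, h.card] at this

include h in
theorem pow_q_sub_one {x : F} (hx : x ≠ 0) : x ^ (2 ^ (2 * m + 1) - 1) = 1 := by
  have := Fintype.ofFinite F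
  have := FiniteField.pow_card_sub_one_eq_one x hx
  rwa [← Nat.card_eq_fintype_card, h.card] at this

theorem θ_def (x : F) : θ x = x ^ 2 ^ (m + 1) := rfl
theorem φ_def (x : F) : φ x = x ^ 2 ^ m := rfl

@[simp] theorem θ_add (x y : F) : θ (x + y) = θ x + θ y := add_pow_char_pow x y 2 (m + 1)
@[simp] theorem θ_mul (x y : F) : θ (x * y) = θ x * θ y := mul_pow x y _
@[simp] theorem θ_zero : θ (0 : F) = 0 := zero_pow (by positivity)
@[simp] theorem θ_one : θ (1 : F) = 1 := one_pow _
@[simp] theorem θ_inv (x : F) : θ x⁻¹ = (θ x)⁻¹ := inv_pow x _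
@[simp] theorem θ_div (x y : F) : θ (x / y) = θ x / θ y := div_pow x y _
@[simp] theorem θ_pow (x : F) (n : ℕ) : θ (x ^ n) = θ x ^ n := by
  simp only [θ_def, ← pow_mul, mul_comm]
@[simp] theorem θ_θ (x : F) : θ (θ x) = x ^ 2 := by
  rw [θ_def, θ_def, ← pow_mul, ← pow_add, show m + 1 + (m + 1) = (2 * m + 1) + 1 by ring, pow_succ,
    pow_mul, pow_q]
@[simp] theorem θ_eq_zero {x : F} : θ x = 0 ↔ x = 0 := by
  simp [θ_def]

@[simp] theorem φ_add (x y : F) : φ (x + y) = φ x + φ y := add_pow_char_pow x y 2 m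
@[simp] theorem φ_mul (x y : F) : φ (x * y) = φ x * φ y := mul_pow x y _
@[simp] theorem φ_zero : φ (0 : F) = 0 := zero_pow (by positivity)
@[simp] theorem φ_one : φ (1 : F) = 1 := one_pow _
@[simp] theorem φ_inv (x : F) : φ x⁻¹ = (φ x)⁻¹ := inv_pow x _
@[simp] theorem φ_eq_zero {x : F} : φ x = 0 ↔ x = 0 := by
  simp [φ_def]
@[simp] theorem θ_φ (x : F) : θ (φ x) = x := by
  rw [θ_def, φ_def, ← pow_mul, ← pow_add, show m + (m + 1) = 2 * m + 1 by ring, pow_q]
@[simp] theorem φ_θ (x : F) : φ (θ x) = x := by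
  rw [θ_def, φ_def, ← pow_mul, ← pow_add, show m + 1 + m = 2 * m + 1 by ring, pow_q]
theorem φ_sq (x : F) : φ x ^ 2 = θ x := by
  rw [θ_def, φ_def, ← pow_mul, ← pow_succ]

theorem θ_injective : Function.Injective (θ : F → F) := fun x y hxy => by
  rw [← φ_θ x, hxy, φ_θ]

theorem θ_surjective : Function.Surjective (θ : F → F) := fun x => ⟨φ x, θ_φ x⟩

@[simp] theorem θ_inj {x y : F} : θ x = θ y ↔ x = y := θ_injective.eq_iff

@[simp] theorem θ_eq_one {x : F} : θ x = 1 ↔ x = 1 := by
  rw [← θ_one (F := F), θ_inj, θ_one]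

theorem θ_ne_zero {x : F} (hx : x ≠ 0) : θ x ≠ 0 := by simpa using hx

theorem φ_injective : Function.Injective (φ : F → F) := fun x y hxy => by
  rw [← θ_φ x, hxy, θ_φ]

@[simp] theorem φ_inj {x y : F} : φ x = φ y ↔ x = y := φ_injective.eq_iff

theorem φ_ne_zero {x : F} (hx : x ≠ 0) : φ x ≠ 0 := by simpa using hx

/-- `θ` as a ring homomorphism. -/
def θHom (F : Type*) [Field F] {m : ℕ} [SuzF F m] : F →+* F where
  toFun := θ
  map_one' := θ_one
  map_mul' := θ_mul
  map_zero' := θ_zero
  map_add' := θ_add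

@[simp] theorem θHom_apply (x : F) : θHom F x = θ x := rfl

include h in
theorem two_eq_zero' : (2 : F) = 0 := CharTwo.two_eq_zero

include h in
theorem add_self' (x : F) : x + x = 0 := CharTwo.add_self_eq_zero x

include h in
theorem sq_injective : Function.Injective (fun x : F => x ^ 2) := fun x y hxy => by
  have : θ (θ x) = θ (θ y) := by simpa using hxy
  exact θ_injective (θ_injective this)

include h in
theorem sq_eq_one' {x : F} (hx : x ^ 2 = 1) : x = 1 := sq_injective (by simpa using hx)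

include h in
theorem exists_sq_eq (x : F) : ∃ y : F, y ^ 2 = x :=
  Finite.surjective_of_injective (sq_injective (F := F)) x

/-- `t + θ t = 1` has no solution. -/
theorem add_θ_ne_one (t : F) : t + θ t ≠ 1 := by
  intro ht
  have h2 : θ t + t ^ 2 = 1 := by simpa using congrArg θ ht
  have h3 : t * (t + 1) = 0 := by grind
  rcases mul_eq_zero.mp h3 with h0 | h1
  · subst h0; simp at ht
  · have : t = 1 := by grind
    subst this; simp at ht

theorem θ_eq_self_iff {t : F} : θ t = t ↔ t = 0 ∨ t = 1 := by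
  constructor
  · intro ht
    have h2 : t ^ 2 = t := by rw [← θ_θ, ht, ht]
    have h3 : t * (t + 1) = 0 := by grind
    rcases mul_eq_zero.mp h3 with h0 | h1
    · exact Or.inl h0
    · right; grind
  · rintro (rfl | rfl) <;> simp

/-- The norm-like map `x ↦ x θ x` is injective. -/
theorem nm_injective : Function.Injective (fun x : F => x * θ x) := by
  intro x y hxy
  simp only at hxy
  have h2 : θ x * x ^ 2 = θ y * y ^ 2 := by simpa using congrArg θ hxy
  by_cases hx : x = 0
  · subst hx; simp at hxy; exact hxy.symm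
  · have hx' := θ_ne_zero hx
    have : x * θ x * (x + y) = 0 := by grind
    have h3 : x + y = 0 := by simpa [hx] using this
    grind

theorem nm_inj {x y : F} : x * θ x = y * θ y ↔ x = y := nm_injective.eq_iff

theorem nm_surjective : Function.Surjective (fun x : F => x * θ x) :=
  Finite.surjective_of_injective nm_injective

theorem nm_eq_one {x : F} : x * θ x = 1 ↔ x = 1 := by
  rw [← nm_inj (x := x) (y := 1)]; simp

include h in
theorem eight_le_card : 8 ≤ Nat.card F := by
  rw [card_F]
  calc 8 = 2 ^ 3 := by norm_num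
    _ ≤ 2 ^ (2 * m + 1) := Nat.pow_le_pow_right (by norm_num) (by have := h.one_le; omega)

include h in
theorem exists_ne_zero_one : ∃ x : F, x ≠ 0 ∧ x ≠ 1 := by
  classical
  have := Fintype.ofFinite F
  by_contra hc
  push Not at hc
  have : (Finset.univ : Finset F) ⊆ {0, 1} := by
    intro x _
    by_cases hx : x = 0
    · simp [hx]
    · simp [hc x hx]
  have h2 := Finset.card_le_card this
  have h3 := eight_le_card (F := F)
  rw [Nat.card_eq_fintype_card] at h3
  have : ({0, 1} : Finset F).card ≤ 2 := Finset.card_le_two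
  simp only [Finset.card_univ] at h2
  omega

include h in
/-- A polynomial of degree less than `q` vanishing at all points is zero. -/
theorem poly_eq_zero (p : Polynomial F) (hp : p.natDegree < 2 ^ (2 * m + 1))
    (hz : ∀ x, p.eval x = 0) : p = 0 := by
  have := Fintype.ofFinite F
  apply Polynomial.eq_zero_of_natDegree_lt_card_of_eval_eq_zero p (f := id) Function.injective_id hz
  rwa [← Nat.card_eq_fintype_card, card_F]

theorem two_pow_succ_add_two_lt {m : ℕ} (h1 : 1 ≤ m) : 2 ^ (m + 1) + 2 < 2 ^ (2 * m + 1) := by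
  obtain ⟨k, rfl⟩ : ∃ k, m = k + 1 := ⟨m - 1, by omega⟩
  have : 2 ^ (2 * (k + 1) + 1) = 2 ^ (k + 1 + 1) * (2 * 2 ^ k) := by ring
  have h2 : 1 ≤ 2 ^ k := Nat.one_le_two_pow
  have h3 : 4 ≤ 2 ^ (k + 1 + 1) := by
    rw [pow_succ, pow_succ]; omega
  nlinarith

/-- Independence of the functions `y^2`, `θ y`, `θ y * y^2`. -/
theorem indep3 {a b c : F} (hz : ∀ y : F, a * y ^ 2 + b * θ y + c * (θ y * y ^ 2) = 0) :
    a = 0 ∧ b = 0 ∧ c = 0 := by
  have hlt := two_pow_succ_add_two_lt h.one_le
  have h4 : 4 ≤ 2 ^ (m + 1) := by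
    calc 4 = 2 ^ 2 := by norm_num
      _ ≤ 2 ^ (m + 1) := Nat.pow_le_pow_right (by norm_num) (by have := h.one_le; omega)
  set p : Polynomial F := Polynomial.monomial 2 a + Polynomial.monomial (2 ^ (m + 1)) b +
    Polynomial.monomial (2 ^ (m + 1) + 2) c with hp
  have h0 : p = 0 := by
    apply poly_eq_zero
    · refine lt_of_le_of_lt ?_ hlt
      refine (Polynomial.natDegree_add_le _ _).trans (max_le ((Polynomial.natDegree_add_le _ _).trans
        (max_le ?_ ?_)) ?_) <;> refine (Polynomial.natDegree_monomial_le _).trans (by omega)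
    · intro x
      have := hz x
      simp only [hp, Polynomial.eval_add, Polynomial.eval_monomial, pow_add]
      rw [← this, θ_def]
      simp [pow_add]
  have ha := congrArg (fun r => r.coeff 2) h0
  have hb := congrArg (fun r => r.coeff (2 ^ (m + 1))) h0
  have hc := congrArg (fun r => r.coeff (2 ^ (m + 1) + 2)) h0
  simp only [hp, Polynomial.coeff_add, Polynomial.coeff_monomial, Polynomial.coeff_zero] at ha hb hc
  generalize 2 ^ (m + 1) = r at *
  have e1 : ¬ r = 2 := by omega
  have e2 : ¬ r + 2 = 2 := by omega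
  have e3 : ¬ 2 = r := by omega
  have e4 : ¬ r + 2 = r := by omega
  have e5 : ¬ 2 = r + 2 := by omega
  have e6 : ¬ r = r + 2 := by omega
  simp only [e1, e2, e3, e4, e5, e6, ↓reduceIte, add_zero, zero_add] at ha hb hc
  exact ⟨ha, hb, hc⟩

end Cfsg.Agent.Suz
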