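import Cfsg.Prelude.Def_LieExceptional
import Cfsg.Agent.Lib.Suz.Field

/-! The Suzuki group as ovoid stabiliser: points, generators, action. -/

set_option autoImplicit false

namespace Cfsg.Agent.Suz

open Matrix

/-- The Suzuki group. -/
abbrev G (F : Type*) [Field F] (m : ℕ) : Type _ := ↥(Cfsg.Sz F m)

/-- The points of the ovoid. -/
abbrev Pt (F : Type*) [Field F] (m : ℕ) : Type _ := ↥(Cfsg.suzukiOvoid F m)

variable {F : Type*} [Field F] {m : ℕ}

/-- The vector of the point at infinity. -/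
def vinf (F : Type*) [Field F] : Fin 4 → F := ![1, 0, 0, 0]

theorem vinf_ne_zero : vinf F ≠ 0 := fun h => by simpa [vinf] using congrFun h 0

/-- The matrix of an element. -/
def mat (g : G F m) : Matrix (Fin 4) (Fin 4) F := g.1.1

@[simp] theorem mat_mul (g k : G F m) : mat (g * k) = mat g * mat k := rfl
@[simp] theorem mat_one : mat (1 : G F m) = 1 := rfl
theorem mat_injective : Function.Injective (mat : G F m → _) := fun _ _ hgk =>
  Subtype.ext (Subtype.ext hgk)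
theorem mat_inj {g k : G F m} : mat g = mat k ↔ g = k := mat_injective.eq_iff
theorem det_mat (g : G F m) : (mat g).det = 1 := g.1.2
theorem mat_pow (g : G F m) (n : ℕ) : mat (g ^ n) = mat g ^ n := by
  induction n with
  | zero => simp
  | succ n ih => rw [pow_succ, pow_succ, mat_mul, ih]
theorem mat_mul_inv (g : G F m) : mat g * mat g⁻¹ = 1 := by rw [← mat_mul, mul_inv_cancel, mat_one]
theorem mat_inv_mul (g : G F m) : mat g⁻¹ * mat g = 1 := by rw [← mat_mul, inv_mul_cancel, mat_one]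

/-- The matrix as a monoid homomorphism. -/
def matHom (F : Type*) [Field F] (m : ℕ) : G F m →* Matrix (Fin 4) (Fin 4) F where
  toFun := mat
  map_one' := mat_one
  map_mul' := mat_mul

variable [h : SuzF F m]

/-- The defining function of the ovoid. -/
def ff (x y : F) : F := x * y + θ x * x ^ 2 + θ y

/-- The vector of an affine point. -/
def vec (x y : F) : Fin 4 → F := ![ff x y, y, x, 1]

theorem vec_ne_zero (x y : F) : vec x y ≠ 0 := fun h => by simpa [vec] using congrFun h 3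

@[simp] theorem ff_zero_zero : ff (0 : F) 0 = 0 := by simp [ff]
@[simp] theorem ff_zero_left (y : F) : ff 0 y = θ y := by simp [ff]

theorem ff_key (x y : F) : θ (ff x y) * (ff x y + x * y) = θ x * ff x y ^ 2 + θ y * y ^ 2 := by
  simp only [ff, θ_add, θ_mul, θ_pow, θ_θ]
  grind

theorem ff_eq_zero {x y : F} (hf : ff x y = 0) : x = 0 ∧ y = 0 := by
  have h1 := ff_key x y
  rw [hf] at h1
  have hy : y = 0 := by simpa using h1.symm
  subst hy
  simpa [ff] using hf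

theorem ff_ne_zero {x y : F} (hxy : ¬(x = 0 ∧ y = 0)) : ff x y ≠ 0 := fun hf => hxy (ff_eq_zero hf)

/-- A vector spanning a point of the ovoid. -/
def OnO (v : Fin 4 → F) : Prop :=
  ∃ c : F, c ≠ 0 ∧ (v = c • vinf F ∨ ∃ x y : F, v = c • vec x y)

theorem OnO.ne_zero {v : Fin 4 → F} (hv : OnO v) : v ≠ 0 := by
  obtain ⟨c, hc, rfl | ⟨x, y, rfl⟩⟩ := hv
  · exact smul_ne_zero hc vinf_ne_zero
  · exact smul_ne_zero hc (vec_ne_zero x y)

theorem OnO.smul {v : Fin 4 → F} (hv : OnO v) {d : F} (hd : d ≠ 0) : OnO (d • v) := by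
  obtain ⟨c, hc, rfl | ⟨x, y, rfl⟩⟩ := hv
  · exact ⟨d * c, mul_ne_zero hd hc, Or.inl (smul_smul _ _ _)⟩
  · exact ⟨d * c, mul_ne_zero hd hc, Or.inr ⟨x, y, smul_smul _ _ _⟩⟩

theorem onO_vinf : OnO (vinf F) := ⟨1, one_ne_zero, Or.inl (one_smul _ _).symm⟩
theorem onO_vec (x y : F) : OnO (vec x y) := ⟨1, one_ne_zero, Or.inr ⟨x, y, (one_smul _ _).symm⟩⟩

theorem vec_eq (x y : F) :
    vec x y = ![x * y + x ^ (2 ^ (m + 1) + 2) + y ^ (2 ^ (m + 1)), y, x, 1] := by
  simp only [vec, ff, θ_def, pow_add]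

theorem mk_mem_iff {v : Fin 4 → F} (hv : v ≠ 0) :
    Projectivization.mk F v hv ∈ suzukiOvoid F m ↔ OnO v := by
  constructor
  · rintro ⟨u, hu, he, hor⟩
    obtain ⟨c, hc⟩ := (Projectivization.mk_eq_mk_iff' F v u hv hu).mp he
    have hc0 : c ≠ 0 := by rintro rfl; exact hv (by simpa using hc.symm)
    refine ⟨c, hc0, ?_⟩
    rcases hor with rfl | ⟨x, y, rfl⟩
    · exact Or.inl hc.symm
    · exact Or.inr ⟨x, y, by rw [vec_eq]; exact hc.symm⟩
  · rintro ⟨c, hc, hor⟩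
    rcases hor with rfl | ⟨x, y, rfl⟩
    · exact ⟨vinf F, vinf_ne_zero, (Projectivization.mk_eq_mk_iff' F _ _ _ _).mpr ⟨c, rfl⟩,
        Or.inl rfl⟩
    · exact ⟨vec x y, vec_ne_zero x y, (Projectivization.mk_eq_mk_iff' F _ _ _ _).mpr ⟨c, rfl⟩,
        Or.inr ⟨x, y, vec_eq x y⟩⟩

theorem mem_Sz_iff (g : SpecialLinearGroup (Fin 4) F) :
    g ∈ Cfsg.Sz F m ↔ OnO (g.1 *ᵥ vinf F) ∧ ∀ x y : F, OnO (g.1 *ᵥ vec x y) := by
  rw [MulAction.mem_stabilizer_set' (Set.toFinite _)]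
  constructor
  · intro hg
    exact ⟨(mk_mem_iff _).mp (hg ((mk_mem_iff vinf_ne_zero).mpr onO_vinf)),
      fun x y => (mk_mem_iff _).mp (hg ((mk_mem_iff (vec_ne_zero x y)).mpr (onO_vec x y)))⟩
  · rintro ⟨h1, h2⟩ p hp
    induction p with
    | h v hv =>
      rw [Projectivization.smul_mk, mk_mem_iff]
      obtain ⟨c, hc, rfl | ⟨x, y, rfl⟩⟩ := (mk_mem_iff hv).mp hp
      · rw [smul_comm]; exact h1.smul hc
      · rw [smul_comm]; exact (h2 x y).smul hc

theorem onO_mulVec (g : G F m) {v : Fin 4 → F} (hv : OnO v) : OnO (mat g *ᵥ v) := by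
  obtain ⟨h1, h2⟩ := (mem_Sz_iff g.1).mp g.2
  obtain ⟨c, hc, rfl | ⟨x, y, rfl⟩⟩ := hv
  · rw [mulVec_smul]; exact h1.smul hc
  · rw [mulVec_smul]; exact (h2 x y).smul hc

/-- The point spanned by a vector on the ovoid. -/
def mkPt (v : Fin 4 → F) (hv : OnO v) : Pt F m :=
  ⟨Projectivization.mk F v hv.ne_zero, (mk_mem_iff _).mpr hv⟩

/-- The point at infinity. -/
def inf : Pt F m := mkPt (vinf F) onO_vinf

/-- The affine point with coordinates `x, y`. -/
def pt (x y : F) : Pt F m := mkPt (vec x y) (onO_vec x y)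

theorem smul_mkPt (g : G F m) (v : Fin 4 → F) (hv : OnO v) :
    g • mkPt v hv = mkPt (mat g *ᵥ v) (onO_mulVec g hv) := rfl

theorem mkPt_eq_iff {v u : Fin 4 → F} (hv : OnO v) (hu : OnO u) :
    mkPt v hv = mkPt u hu ↔ ∃ c : F, c • u = v := by
  rw [mkPt, mkPt, Subtype.mk.injEq, Projectivization.mk_eq_mk_iff']

theorem smul_mkPt_eq_iff (g : G F m) {v u : Fin 4 → F} (hv : OnO v) (hu : OnO u) :
    g • mkPt v hv = mkPt u hu ↔ ∃ c : F, c • u = mat g *ᵥ v := by
  rw [smul_mkPt, mkPt_eq_iff]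

theorem pt_cases (α : Pt F m) : α = inf ∨ ∃ x y : F, α = pt x y := by
  obtain ⟨p, hp⟩ := α
  induction p with
  | h v hv =>
    obtain ⟨c, hc, rfl | ⟨x, y, rfl⟩⟩ := (mk_mem_iff hv).mp hp
    · left; exact (mkPt_eq_iff (onO_vinf.smul hc) onO_vinf).mpr ⟨c, rfl⟩
    · right; exact ⟨x, y, (mkPt_eq_iff ((onO_vec x y).smul hc) (onO_vec x y)).mpr ⟨c, rfl⟩⟩

@[simp] theorem pt_ne_inf (x y : F) : pt x y ≠ (inf : Pt F m) := by
  intro he
  obtain ⟨c, hc⟩ := (mkPt_eq_iff _ _).mp he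
  simpa [vinf, vec] using congrFun hc 3

@[simp] theorem inf_ne_pt (x y : F) : (inf : Pt F m) ≠ pt x y := (pt_ne_inf x y).symm

@[simp] theorem pt_inj {x y x' y' : F} : (pt x y : Pt F m) = pt x' y' ↔ x = x' ∧ y = y' := by
  constructor
  · intro he
    obtain ⟨c, hc⟩ := (mkPt_eq_iff _ _).mp he
    have h3 : c = 1 := by simpa [vec] using congrFun hc 3
    subst h3
    have h2 := congrFun hc 2
    have h1 := congrFun hc 1
    simp [vec] at h1 h2
    exact ⟨h2.symm, h1.symm⟩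
  · rintro ⟨rfl, rfl⟩; rfl

theorem exists_eq_pt {α : Pt F m} (hα : α ≠ inf) : ∃ x y : F, α = pt x y :=
  (pt_cases α).resolve_left hα

/-- Unipotent matrices. -/
def uM (a b : F) : Matrix (Fin 4) (Fin 4) F :=
  !![1, a, b + a * θ a, ff a b; 0, 1, θ a, b; 0, 0, 1, a; 0, 0, 0, 1]

/-- Diagonal matrices. -/
def hM (μ : F) : Matrix (Fin 4) (Fin 4) F :=
  !![φ μ * μ, 0, 0, 0; 0, φ μ, 0, 0; 0, 0, (φ μ)⁻¹, 0; 0, 0, 0, (φ μ * μ)⁻¹]

/-- The Weyl matrix. -/
def wM (F : Type*) [Field F] : Matrix (Fin 4) (Fin 4) F :=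
  !![0, 0, 0, 1; 0, 0, 1, 0; 0, 1, 0, 0; 1, 0, 0, 0]

theorem det_uM (a b : F) : (uM a b).det = 1 := by
  simp [uM, det_succ_row_zero, Fin.sum_univ_succ, Fin.succAbove]

theorem det_hM {μ : F} (hμ : μ ≠ 0) : (hM μ).det = 1 := by
  have := φ_ne_zero hμ
  simp [hM, det_succ_row_zero, Fin.sum_univ_succ, Fin.succAbove]
  field_simp

omit h in
theorem det_wM : (wM F).det = 1 := by
  simp [wM, det_succ_row_zero, Fin.sum_univ_succ, Fin.succAbove]
  norm_num

theorem uM_vinf (a b : F) : uM a b *ᵥ vinf F = vinf F := by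
  ext i; fin_cases i <;> simp [uM, vinf, mulVec, dotProduct, Fin.sum_univ_four]

theorem uM_vec (a b x y : F) : uM a b *ᵥ vec x y = vec (x + a) (y + b + θ a * x) := by
  ext i; fin_cases i <;> simp [uM, vec, mulVec, dotProduct, Fin.sum_univ_four, ff] <;> grind

theorem hM_vinf (μ : F) : hM μ *ᵥ vinf F = (φ μ * μ) • vinf F := by
  ext i; fin_cases i <;> simp [hM, vinf, mulVec, dotProduct, Fin.sum_univ_four]

theorem hM_vec {μ : F} (hμ : μ ≠ 0) (x y : F) :
    hM μ *ᵥ vec x y = (φ μ * μ)⁻¹ • vec (μ * x) (μ * θ μ * y) := by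
  obtain ⟨l, rfl⟩ := θ_surjective μ
  have hl : l ≠ 0 := by simpa using hμ
  ext i; fin_cases i <;> simp [hM, vec, mulVec, dotProduct, Fin.sum_univ_four, ff] <;>
    field_simp

theorem wM_vinf : wM F *ᵥ vinf F = vec (0 : F) 0 := by
  ext i; fin_cases i <;> simp [wM, vinf, vec, mulVec, dotProduct, Fin.sum_univ_four]

theorem wM_vec_zero : wM F *ᵥ vec (0 : F) 0 = vinf F := by
  ext i; fin_cases i <;> simp [wM, vinf, vec, mulVec, dotProduct, Fin.sum_univ_four]

theorem wM_vec {x y : F} (hf : ff x y ≠ 0) :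
    wM F *ᵥ vec x y = ff x y • vec (y / ff x y) (x / ff x y) := by
  have hk := ff_key x y
  have hf' := θ_ne_zero hf
  ext i; fin_cases i <;> simp [wM, vec, mulVec, dotProduct, Fin.sum_univ_four]
  · generalize ff x y = z at *
    simp only [ff, θ_div]
    field_simp
    grind
  · field_simp
  · field_simp

/-- The unipotent element `u(a,b)`. -/
def u (a b : F) : G F m := ⟨⟨uM a b, det_uM a b⟩, (mem_Sz_iff _).mpr
  ⟨by rw [uM_vinf]; exact onO_vinf, fun x y => by rw [uM_vec]; exact onO_vec _ _⟩⟩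

/-- The diagonal element `h(μ)`. -/
def hh (μ : Fˣ) : G F m := ⟨⟨hM (μ : F), det_hM μ.ne_zero⟩, (mem_Sz_iff _).mpr
  ⟨by rw [hM_vinf]; exact onO_vinf.smul (mul_ne_zero (φ_ne_zero μ.ne_zero) μ.ne_zero),
   fun x y => by
    rw [hM_vec μ.ne_zero]
    exact (onO_vec _ _).smul (inv_ne_zero (mul_ne_zero (φ_ne_zero μ.ne_zero) μ.ne_zero))⟩⟩

/-- The Weyl element. -/
def w : G F m := ⟨⟨wM F, det_wM⟩, (mem_Sz_iff _).mpr
  ⟨by rw [wM_vinf]; exact onO_vec _ _, fun x y => by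
    by_cases hf : ff x y = 0
    · obtain ⟨rfl, rfl⟩ := ff_eq_zero hf
      rw [wM_vec_zero]; exact onO_vinf
    · rw [wM_vec hf]; exact (onO_vec _ _).smul hf⟩⟩

@[simp] theorem mat_u (a b : F) : mat (u a b : G F m) = uM a b := rfl
@[simp] theorem mat_hh (μ : Fˣ) : mat (hh μ : G F m) = hM (μ : F) := rfl
@[simp] theorem mat_w : mat (w : G F m) = wM F := rfl

@[simp] theorem u_smul_inf (a b : F) : (u a b : G F m) • (inf : Pt F m) = inf :=
  (smul_mkPt_eq_iff _ _ _).mpr ⟨1, by rw [mat_u, uM_vinf, one_smul]⟩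

@[simp] theorem u_smul_pt (a b x y : F) :
    (u a b : G F m) • (pt x y : Pt F m) = pt (x + a) (y + b + θ a * x) :=
  (smul_mkPt_eq_iff _ _ _).mpr ⟨1, by rw [mat_u, uM_vec, one_smul]⟩

@[simp] theorem hh_smul_inf (μ : Fˣ) : (hh μ : G F m) • (inf : Pt F m) = inf :=
  (smul_mkPt_eq_iff _ _ _).mpr ⟨_, by rw [mat_hh, hM_vinf]⟩

@[simp] theorem hh_smul_pt (μ : Fˣ) (x y : F) :
    (hh μ : G F m) • (pt x y : Pt F m) = pt (μ * x) (μ * θ (μ : F) * y) :=
  (smul_mkPt_eq_iff _ _ _).mpr ⟨_, by rw [mat_hh, hM_vec μ.ne_zero]⟩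

@[simp] theorem w_smul_inf : (w : G F m) • (inf : Pt F m) = pt 0 0 :=
  (smul_mkPt_eq_iff _ _ _).mpr ⟨1, by rw [mat_w, wM_vinf, one_smul]⟩

@[simp] theorem w_smul_zero : (w : G F m) • (pt 0 0 : Pt F m) = inf :=
  (smul_mkPt_eq_iff _ _ _).mpr ⟨1, by rw [mat_w, wM_vec_zero, one_smul]⟩

theorem w_smul_pt {x y : F} (hf : ff x y ≠ 0) :
    (w : G F m) • (pt x y : Pt F m) = pt (y / ff x y) (x / ff x y) :=
  (smul_mkPt_eq_iff _ _ _).mpr ⟨_, by rw [mat_w, wM_vec hf]⟩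

theorem u_mul_u (a b c d : F) : (u a b * u c d : G F m) = u (a + c) (b + d + θ a * c) := by
  apply mat_injective
  simp only [mat_mul, mat_u]
  ext i j; fin_cases i <;> fin_cases j <;> simp [uM, Matrix.mul_apply, Fin.sum_univ_four, ff] <;>
    grind

@[simp] theorem u_zero_zero : (u 0 0 : G F m) = 1 := by
  apply mat_injective
  simp only [mat_one, mat_u]
  ext i j; fin_cases i <;> fin_cases j <;> simp [uM]

theorem u_inj {a b c d : F} : (u a b : G F m) = u c d ↔ a = c ∧ b = d := by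
  constructor
  · intro he
    have h1 := congrArg (fun g : G F m => g • (pt 0 0 : Pt F m)) he
    simpa using h1
  · rintro ⟨rfl, rfl⟩; rfl

theorem u_eq_one {a b : F} : (u a b : G F m) = 1 ↔ a = 0 ∧ b = 0 := by
  rw [← u_zero_zero, u_inj]

theorem u_inv (a b : F) : (u a b : G F m)⁻¹ = u a (b + a * θ a) := by
  rw [inv_eq_iff_mul_eq_one, u_mul_u, u_eq_one]
  constructor <;> grind

theorem u_sq (a b : F) : (u a b : G F m) ^ 2 = u 0 (a * θ a) := by
  rw [sq, u_mul_u, u_inj]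
  constructor <;> grind

theorem u_pow_four (a b : F) : (u a b : G F m) ^ 4 = 1 := by
  have : (u a b : G F m) ^ 4 = (u a b ^ 2) ^ 2 := by rw [← pow_mul]
  rw [this, u_sq, u_sq]; simp

theorem hh_mul_hh (μ ν : Fˣ) : (hh μ * hh ν : G F m) = hh (μ * ν) := by
  apply mat_injective
  simp only [mat_mul, mat_hh]
  ext i j; fin_cases i <;> fin_cases j <;> simp [hM, Matrix.mul_apply, Fin.sum_univ_four] <;>
    ring

@[simp] theorem hh_one : (hh 1 : G F m) = 1 := by
  apply mat_injective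
  simp only [mat_one, mat_hh]
  ext i j; fin_cases i <;> fin_cases j <;> simp [hM]

/-- `h` as a homomorphism. -/
def hHom (F : Type*) [Field F] {m : ℕ} [SuzF F m] : Fˣ →* G F m where
  toFun := hh
  map_one' := hh_one
  map_mul' μ ν := (hh_mul_hh μ ν).symm

@[simp] theorem hHom_apply (μ : Fˣ) : hHom F μ = hh μ := rfl

theorem hh_inv (μ : Fˣ) : (hh μ : G F m)⁻¹ = hh μ⁻¹ := (map_inv (hHom F) μ).symm

theorem hh_pow (μ : Fˣ) (n : ℕ) : (hh μ : G F m) ^ n = hh (μ ^ n) := (map_pow (hHom F) μ n).symm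

theorem hh_inj {μ ν : Fˣ} : (hh μ : G F m) = hh ν ↔ μ = ν := by
  constructor
  · intro he
    have h1 := congrArg (fun g : G F m => g • (pt 1 0 : Pt F m)) he
    exact Units.ext (by simpa using h1)
  · rintro rfl; rfl

theorem hh_eq_one {μ : Fˣ} : (hh μ : G F m) = 1 ↔ μ = 1 := by
  rw [← hh_one, hh_inj]

theorem hHom_injective : Function.Injective (hHom F) := fun _ _ he => hh_inj.mp he

theorem hh_mul_u (μ : Fˣ) (a b : F) :
    (hh μ * u a b : G F m) = u (μ * a) (μ * θ (μ : F) * b) * hh μ := by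
  apply mat_injective
  simp only [mat_mul, mat_hh, mat_u]
  have hμ := μ.ne_zero
  generalize (μ : F) = ν at hμ
  obtain ⟨l, rfl⟩ := θ_surjective ν
  have hl : l ≠ 0 := by simpa using hμ
  ext i j; fin_cases i <;> fin_cases j <;>
    simp [hM, uM, Matrix.mul_apply, Fin.sum_univ_four, ff] <;> field_simp

theorem hh_conj_u (μ : Fˣ) (a b : F) :
    (hh μ * u a b * (hh μ)⁻¹ : G F m) = u (μ * a) (μ * θ (μ : F) * b) := by
  rw [hh_mul_u, mul_inv_cancel_right]

@[simp] theorem w_mul_w : (w * w : G F m) = 1 := by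
  apply mat_injective
  simp only [mat_mul, mat_w, mat_one]
  ext i j; fin_cases i <;> fin_cases j <;> simp [wM, Matrix.mul_apply, Fin.sum_univ_four]

@[simp] theorem w_inv : (w : G F m)⁻¹ = w := inv_eq_of_mul_eq_one_right w_mul_w

theorem w_ne_one : (w : G F m) ≠ 1 := by
  intro he
  have h1 := congrArg (fun g : G F m => g • (inf : Pt F m)) he
  simp at h1

theorem w_mul_hh (μ : Fˣ) : (w * hh μ : G F m) = hh μ⁻¹ * w := by
  apply mat_injective
  simp only [mat_mul, mat_hh, mat_w]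
  ext i j; fin_cases i <;> fin_cases j <;>
    simp [hM, wM, Matrix.mul_apply, Fin.sum_univ_four, mul_comm]

theorem hh_mul_w (μ : Fˣ) : (hh μ * w : G F m) = w * hh μ⁻¹ := by
  rw [w_mul_hh, inv_inv]

end Cfsg.Agent.Suz
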