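import Cfsg.Agent.Lib.Suz.Trace

/-! The Suzuki group: overgroups of the unipotent subgroup. -/

set_option autoImplicit false

namespace Cfsg.Agent.Suz

open Matrix MulAction

variable {F : Type*} [Field F] {m : ℕ} [h : SuzF F m]

theorem eq_top_of_U_le {M : Subgroup (G F m)} (hU : U F ≤ M) (hB : ¬ M ≤ B F) : M = ⊤ := by
  obtain ⟨g, hgM, hgB⟩ := SetLike.not_le_iff_exists.mp hB
  obtain ⟨a, b, μ, c, d, rfl⟩ := bruhat hgB
  have hn : hh μ * w ∈ M := by
    rw [M.mul_mem_cancel_right (hU (u_mem_U c d)), mul_assoc,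
      M.mul_mem_cancel_left (hU (u_mem_U a b))] at hgM
    exact hgM
  have htr : ∀ α : Pt F m, ∃ y ∈ M, y • (inf : Pt F m) = α := by
    intro α
    rcases pt_cases α with rfl | ⟨x, y, rfl⟩
    · exact ⟨1, one_mem _, one_smul _ _⟩
    · exact ⟨u x y * (hh μ * w), mul_mem (hU (u_mem_U x y)) hn, by simp [mul_smul]⟩
  have hall : ∀ j : G F m, j * j = 1 → j ∈ M := by
    intro j hj
    obtain ⟨α, hα⟩ := exists_fix_of_tr (tr_eq_zero_of_sq hj)
    obtain ⟨y, hy, rfl⟩ := htr α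
    have h1 : y⁻¹ * j * y ∈ U F := by
      apply mem_U_of_tr
      · rw [mem_B, mul_smul, mul_smul, hα, inv_smul_smul]
      · rw [tr_conj', tr_eq_zero_of_sq hj]
    have h2 := hU h1
    rwa [M.mul_mem_cancel_right hy, M.mul_mem_cancel_left (inv_mem hy)] at h2
  have hw : w ∈ M := hall _ w_mul_w
  refine eq_top_of_mem (fun a b => hU (u_mem_U a b)) (fun ν => ?_) hw
  have := mul_mem (hall _ (hh_mul_w_sq ν)) hw
  rwa [mul_assoc, w_mul_w, mul_one] at this

theorem mem_normalizer_of_conj {P : Subgroup (G F m)} {x : G F m}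
    (hx : ∀ g : G F m, g ∈ P ↔ x⁻¹ * g * x ∈ U F) (g : G F m) :
    g ∈ Subgroup.normalizer (P : Set (G F m)) ↔ x⁻¹ * g * x ∈ B F := by
  rw [← normalizer_U, Subgroup.mem_normalizer_iff, Subgroup.mem_normalizer_iff]
  constructor
  · intro H k
    have := H (x * k * x⁻¹)
    rw [hx, hx] at this
    convert this using 2 <;> group
  · intro H k
    have := H (x⁻¹ * k * x)
    rw [hx, hx]
    convert this using 2; group

theorem not_isConj_u_inv {a b : F} (ha : a ≠ 0) : ¬ IsConj (u a b : G F m) (u a b)⁻¹ := by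
  intro hc
  obtain ⟨x, hx⟩ := isConj_iff.mp hc
  have h1 : (u a b : G F m) ≠ 1 := by simp [u_eq_one, ha]
  have hB := mem_B_of_conj_mem_U (u_mem_U a b) h1 (by rw [hx]; exact inv_mem (u_mem_U a b))
  obtain ⟨c, d, μ, rfl⟩ := mem_B_iff.mp hB
  rw [B_conj_u, u_inv, u_inj] at hx
  have hμ : (μ : F) = 1 := mul_right_cancel₀ ha (by rw [hx.1, one_mul])
  have h2 := hx.2
  rw [hμ] at h2
  simp only [θ_one, one_mul] at h2
  apply add_θ_ne_one (c / a)
  have ha' := θ_ne_zero ha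
  rw [θ_div]
  field_simp
  grind

end Cfsg.Agent.Suz
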