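import Cfsg.Agent.Lib.Suz.Trace

/-! Homomorphisms of Suzuki groups induced by field embeddings. -/

set_option autoImplicit false

namespace Cfsg.Agent.Suz

open Matrix MulAction

variable {K : Type*} [Field K] {k : ℕ} [SuzF K k] {F : Type*} [Field F] {m : ℕ} [SuzF F m]

theorem map_φ {ι : K →+* F} (hι : ∀ x, ι (θ x) = θ (ι x)) (x : K) : ι (φ x) = φ (ι x) :=
  θ_injective (by rw [← hι, θ_φ, θ_φ])

theorem uM_map {ι : K →+* F} (hι : ∀ x, ι (θ x) = θ (ι x)) (a b : K) :
    (uM a b).map ι = uM (ι a) (ι b) := by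
  ext i j; fin_cases i <;> fin_cases j <;> simp [uM, ff, hι]

theorem hM_map {ι : K →+* F} (hι : ∀ x, ι (θ x) = θ (ι x)) (a : K) :
    (hM a).map ι = hM (ι a) := by
  ext i j; fin_cases i <;> fin_cases j <;> simp [hM, map_φ hι]

theorem wM_map {K F : Type*} [Field K] [Field F] (ι : K →+* F) : (wM K).map ι = wM F := by
  ext i j; fin_cases i <;> fin_cases j <;> simp [wM]

theorem exists_mat_eq_map {ι : K →+* F} (hι : ∀ x, ι (θ x) = θ (ι x)) (g : G K k) :
    ∃ g' : G F m, mat g' = (mat g).map ι := by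
  induction g using induction_gen with
  | hU a b => exact ⟨u (ι a) (ι b), (uM_map hι a b).symm⟩
  | hH μ => exact ⟨hh (Units.map ι.toMonoidHom μ), (hM_map hι _).symm⟩
  | hw => exact ⟨w, (wM_map ι).symm⟩
  | hmul x y hx hy =>
    obtain ⟨x', hx⟩ := hx
    obtain ⟨y', hy⟩ := hy
    exact ⟨x' * y', by rw [mat_mul, mat_mul, hx, hy, Matrix.map_mul]⟩

/-- The homomorphism induced by a field embedding compatible with `θ`. -/
noncomputable def mapG (ι : K →+* F) (hι : ∀ x, ι (θ x) = θ (ι x)) : G K k →* G F m where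
  toFun g := (exists_mat_eq_map hι g).choose
  map_one' := mat_injective (by
    rw [(exists_mat_eq_map hι 1).choose_spec, mat_one, mat_one, Matrix.map_one _ (map_zero ι)
      (map_one ι)])
  map_mul' x y := mat_injective (by
    rw [(exists_mat_eq_map hι (x * y)).choose_spec, mat_mul (exists_mat_eq_map hι x).choose,
      (exists_mat_eq_map hι x).choose_spec, (exists_mat_eq_map hι y).choose_spec, mat_mul,
      Matrix.map_mul])

theorem mat_mapG {ι : K →+* F} (hι : ∀ x, ι (θ x) = θ (ι x)) (g : G K k) :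
    mat (mapG ι hι g : G F m) = (mat g).map ι := (exists_mat_eq_map hι g).choose_spec

@[simp] theorem mapG_u {ι : K →+* F} (hι : ∀ x, ι (θ x) = θ (ι x)) (a b : K) :
    (mapG ι hι (u a b) : G F m) = u (ι a) (ι b) :=
  mat_injective (by rw [mat_mapG, mat_u, mat_u, uM_map hι])

@[simp] theorem mapG_hh {ι : K →+* F} (hι : ∀ x, ι (θ x) = θ (ι x)) (μ : Kˣ) :
    (mapG ι hι (hh μ) : G F m) = hh (Units.map ι.toMonoidHom μ) :=
  mat_injective (by rw [mat_mapG, mat_hh, mat_hh, hM_map hι]; rfl)

@[simp] theorem mapG_w {ι : K →+* F} (hι : ∀ x, ι (θ x) = θ (ι x)) :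
    (mapG ι hι w : G F m) = w :=
  mat_injective (by rw [mat_mapG, mat_w, mat_w, wM_map])

theorem mapG_injective {ι : K →+* F} (hι : ∀ x, ι (θ x) = θ (ι x)) :
    Function.Injective (mapG ι hι : G K k → G F m) := by
  intro x y he
  apply mat_injective
  have := congrArg mat he
  rw [mat_mapG, mat_mapG] at this
  exact Matrix.map_injective ι.injective this

theorem hom_ext {M : Type*} [Group M] {f g : G F m →* M} (hU : ∀ a b : F, f (u a b) = g (u a b))
    (hH : ∀ μ : Fˣ, f (hh μ) = g (hh μ)) (hw : f w = g w) : f = g := by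
  ext x
  induction x using induction_gen with
  | hU a b => exact hU a b
  | hH μ => exact hH μ
  | hw => exact hw
  | hmul x y hx hy => rw [map_mul, map_mul, hx, hy]

theorem map_θ_of_dvd (ι : K →+* F) (hdiv : 2 * k + 1 ∣ 2 * m + 1) (x : K) :
    ι (θ x) = θ (ι x) := by
  obtain ⟨e, he⟩ := hdiv
  obtain ⟨f, rfl⟩ : Odd e := by
    have : Odd ((2 * k + 1) * e) := by rw [← he]; exact odd_two_mul_add_one m
    exact (Nat.odd_mul.mp this).2
  have hm : m + 1 = (2 * k + 1) * f + (k + 1) := by nlinarith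
  have key : ∀ n : ℕ, x ^ 2 ^ ((2 * k + 1) * n) = x := by
    intro n
    induction n with
    | zero => simp
    | succ n ih => rw [Nat.mul_succ, pow_add, pow_mul, ih, pow_q]
  rw [θ_def, θ_def, hm, pow_add 2 ((2 * k + 1) * f), pow_mul, ← map_pow, key, map_pow]

theorem map_θ_self (σ : F →+* F) (x : F) : σ (θ x) = θ (σ x) := map_pow σ x _

/-- Field automorphisms. -/
noncomputable def fieldAut (σ : F ≃+* F) : MulAut (G F m) :=
  MulEquiv.ofBijective (mapG (σ : F →+* F) (map_θ_self _))
    (Finite.injective_iff_bijective.mp (mapG_injective _))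

theorem fieldAut_apply (σ : F ≃+* F) (g : G F m) :
    fieldAut σ g = mapG (σ : F →+* F) (map_θ_self _) g := rfl

end Cfsg.Agent.Suz
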