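import Cfsg.Agent.Lib.Suz.Trace

/-! The characteristic polynomial of elements of the Suzuki group and its roots. -/

set_option autoImplicit false

namespace Cfsg.Agent.Suz

open Matrix Polynomial

/-- `q + r + 1`. -/
def tp (m : ℕ) : ℕ := 2 ^ (2 * m + 1) + 2 ^ (m + 1) + 1

/-- `q - r + 1`. -/
def tm (m : ℕ) : ℕ := 2 ^ (2 * m + 1) - 2 ^ (m + 1) + 1

theorem r_le_q (m : ℕ) : 2 ^ (m + 1) ≤ 2 ^ (2 * m + 1) :=
  Nat.pow_le_pow_right (by norm_num) (by omega)

theorem r_sq (m : ℕ) : 2 ^ (m + 1) * 2 ^ (m + 1) = 2 * 2 ^ (2 * m + 1) := by ring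

theorem tm_add_r (m : ℕ) : tm m + 2 ^ (m + 1) = 2 ^ (2 * m + 1) + 1 := by
  have := r_le_q m
  unfold tm; omega

theorem tp_mul_tm (m : ℕ) : tp m * tm m = (2 ^ (2 * m + 1)) ^ 2 + 1 := by
  have h1 := tm_add_r m
  have h2 := r_sq m
  unfold tp
  generalize tm m = t at *
  generalize 2 ^ (m + 1) = r at *
  generalize 2 ^ (2 * m + 1) = q at *
  nlinarith

theorem five_le_tm {m : ℕ} (hm : 1 ≤ m) : 5 ≤ tm m := by
  have h1 := tm_add_r m
  have h2 := two_pow_succ_add_two_lt hm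
  have h3 : Even (2 ^ (m + 1)) := Nat.even_pow.mpr ⟨even_two, by omega⟩
  have h4 : Even (2 ^ (2 * m + 1)) := Nat.even_pow.mpr ⟨even_two, by omega⟩
  obtain ⟨a, ha⟩ := h3
  obtain ⟨b, hb⟩ := h4
  omega

theorem tm_lt_tp (m : ℕ) : tm m < tp m := by
  have h1 := tm_add_r m
  have : 0 < 2 ^ (m + 1) := by positivity
  unfold tp; omega

theorem odd_tp (m : ℕ) : Odd (tp m) :=
  (Nat.odd_mul.mp (by rw [tp_mul_tm]; exact odd_q_sq_add_one)).1

theorem odd_tm (m : ℕ) : Odd (tm m) :=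
  (Nat.odd_mul.mp (by rw [tp_mul_tm]; exact odd_q_sq_add_one)).2

theorem coprime_tp_tm (m : ℕ) : Nat.Coprime (tp m) (tm m) := by
  have h1 : tp m = tm m + 2 ^ (m + 2) := by
    have := tm_add_r m
    unfold tp; rw [pow_succ 2 (m + 1)]; omega
  rw [h1, Nat.coprime_self_add_left]
  exact Nat.Coprime.pow_left _ ((Nat.coprime_two_left).mpr (odd_tm m))

theorem coprime_q_sub_one (m : ℕ) :
    Nat.Coprime (2 ^ (2 * m + 1) - 1) ((2 ^ (2 * m + 1)) ^ 2 + 1) := by
  have h1 : 1 ≤ 2 ^ (2 * m + 1) := Nat.one_le_two_pow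
  have ho := odd_q_sub_one (m := m)
  obtain ⟨s, hs⟩ : ∃ s, 2 ^ (2 * m + 1) = s + 1 := ⟨2 ^ (2 * m + 1) - 1, by omega⟩
  rw [hs] at ho ⊢
  simp only [add_tsub_cancel_right] at ho ⊢
  rw [show (s + 1) ^ 2 + 1 = 2 + s * (s + 2) by ring, Nat.coprime_add_mul_left_right]
  exact (Nat.coprime_two_right).mpr ho

theorem coprime_B_card (m : ℕ) : Nat.Coprime ((2 ^ (2 * m + 1)) ^ 2 * (2 ^ (2 * m + 1) - 1))
    ((2 ^ (2 * m + 1)) ^ 2 + 1) :=
  Nat.Coprime.mul_left (by simp) (coprime_q_sub_one m)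

theorem alg_fact1 {K : Type*} [Field K] [CharP K 2] {α ai β bi : K} (hai : α * ai = 1)
    (hbi : β * bi = 1) (ρ : K) : (ρ + α * β) * (ρ + ai * bi) * (ρ + α * bi) * (ρ + ai * β) =
      ρ ^ 4 + (α + ai) * (β + bi) * ρ ^ 3 + (α + ai + (β + bi)) ^ 2 * ρ ^ 2 +
        (α + ai) * (β + bi) * ρ + 1 := by grind

theorem alg_fact2 {K : Type*} [Field K] [CharP K 2] {α ai β bi : K} (hai : α * ai = 1)
    (hbi : β * bi = 1) (ρ : K) : (ρ + α) * (ρ + β) * (ρ + ai) * (ρ + bi) =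
      ρ ^ 4 + (α + ai + (β + bi)) * ρ ^ 3 + (α + ai) * (β + bi) * ρ ^ 2 +
        (α + ai + (β + bi)) * ρ + 1 := by grind

variable {F : Type*} [Field F] {m : ℕ} [h : SuzF F m]

/-- The characteristic polynomial attached to a trace. -/
noncomputable def pp (τ : F) : F[X] := X ^ 4 + C τ * X ^ 3 + C (θ τ) * X ^ 2 + C τ * X + 1

theorem pp_monic (τ : F) : (pp τ).Monic := by
  unfold pp; monicity!

theorem pp_natDegree (τ : F) : (pp τ).natDegree = 4 := by
  unfold pp; compute_degree!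

theorem aeval_pp {A : Type*} [Ring A] [Algebra F A] (τ : F) (x : A) :
    aeval x (pp τ) = x ^ 4 + τ • x ^ 3 + θ τ • x ^ 2 + τ • x + 1 := by
  simp [pp, Algebra.smul_def]

theorem aeval_mat_pp (g : G F m) : aeval (mat g) (pp (tr g)) = 0 := by
  rw [aeval_pp]; exact CH_all g

theorem root_facts {K : Type*} [Field K] [Algebra F K] {α : K} {τ : F} (hτ : τ ≠ 0)
    (hr : aeval α (pp τ) = 0) (hα : α ^ ((2 ^ (2 * m + 1)) ^ 2 + 1) = 1) :
    minpoly F α = pp τ ∧ (α ^ tp m = 1 ∨ α ^ tm m = 1) ∧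
      ∀ γ : K, aeval γ (pp τ) = 0 → γ = α ∨ γ = α ^ 2 ^ (2 * m + 1) ∨
        γ = α ^ (2 ^ (2 * m + 1)) ^ 2 ∨ γ = α ^ (2 ^ (2 * m + 1)) ^ 3 := by
  classical
  have : CharP K 2 := charP_of_injective_algebraMap (algebraMap F K).injective 2
  have := Fintype.ofFinite F
  have hcard : Fintype.card F = 2 ^ (2 * m + 1) := by rw [← Nat.card_eq_fintype_card, card_F]
  have hfr : ∀ (p : F[X]) (γ : K), aeval γ p = 0 → aeval (γ ^ 2 ^ (2 * m + 1)) p = 0 := by
    intro p γ hγ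
    have := Polynomial.aeval_algHom_apply (FiniteField.frobeniusAlgHom F K) γ p
    rw [hγ, map_zero] at this
    simpa [FiniteField.coe_frobeniusAlgHom, hcard] using this
  have hρ : (α ^ 2 ^ (m + 1)) ^ 4 + algebraMap F K (θ τ) * (α ^ 2 ^ (m + 1)) ^ 3 +
      algebraMap F K τ ^ 2 * (α ^ 2 ^ (m + 1)) ^ 2 + algebraMap F K (θ τ) * α ^ 2 ^ (m + 1) + 1
        = 0 := by
    have h1 := congrArg (iterateFrobenius K 2 (m + 1)) hr
    rw [aeval_pp] at h1
    simp only [Algebra.smul_def, map_add, map_mul, map_pow, map_one, map_zero,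
      iterateFrobenius_def] at h1
    rw [← map_pow, ← map_pow, ← θ_def τ, ← θ_def (θ τ), θ_θ, map_pow] at h1
    exact h1
  have hrβ := hfr _ _ hr
  have hr' := hr
  rw [aeval_pp] at hr' hrβ
  simp only [Algebra.smul_def] at hr' hrβ
  have hb0 : algebraMap F K (θ τ) ≠ 0 := by simpa using hτ
  have hα0 : α ≠ 0 := by rintro rfl; simp at hα
  have hα1 : α ≠ 1 := by rintro rfl; apply hb0; grind
  have hsq : ∀ x : K, x * x = 1 → x = 1 := fun x hx => by
    have : (x + 1) ^ 2 = 0 := by grind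
    have := pow_eq_zero_iff (two_ne_zero) |>.mp this
    grind
  have hrr := r_sq m
  have htm := tm_add_r m
  unfold tp
  generalize tm m = t at *
  generalize 2 ^ (m + 1) = r at *
  generalize 2 ^ (2 * m + 1) = q at *
  have h2 : α ^ q ^ 2 = α⁻¹ := eq_inv_of_mul_eq_one_left (by rw [← pow_succ, hα])
  have h2' : (α ^ q) ^ q = α⁻¹ := by rw [← pow_mul, ← sq, h2]
  have h3 : α ^ q ^ 3 = (α ^ q)⁻¹ := by rw [pow_succ q 2, pow_mul, h2, inv_pow]
  have hβ0 : α ^ q ≠ 0 := pow_ne_zero _ hα0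
  have hαα : α⁻¹ ≠ α := fun he => hα1 (hsq _ (by nth_rewrite 1 [← he]; exact inv_mul_cancel₀ hα0))
  have hβα : α ^ q ≠ α := fun he => hαα (by rw [← h2', he, he])
  have hβα' : α ^ q ≠ α⁻¹ := fun he => hαα (by
    rw [← h2', he, inv_pow, he, inv_inv])
  have hββ : (α ^ q)⁻¹ ≠ α ^ q := fun he => by
    have : α ^ q = 1 := hsq _ (by nth_rewrite 1 [← he]; exact inv_mul_cancel₀ hβ0)
    rw [this, one_pow, eq_comm, inv_eq_one] at h2'
    exact hα1 h2'
  have hai : α * α⁻¹ = 1 := mul_inv_cancel₀ hα0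
  have hbi : α ^ q * (α ^ q)⁻¹ = 1 := mul_inv_cancel₀ hβ0
  have hρq : (α ^ r) ^ q = (α ^ q) ^ r := by rw [← pow_mul, ← pow_mul, mul_comm]
  have hρr : (α ^ r) ^ r = (α ^ q) ^ 2 := by rw [← pow_mul, ← pow_mul, hrr, mul_comm]
  have hst : α + α⁻¹ + (α ^ q + (α ^ q)⁻¹) ≠ 0 := by
    intro he
    have h4 : (α + α ^ q) * (α⁻¹ + α ^ q) = 0 := by
      generalize α⁻¹ = ai at *
      generalize (α ^ q)⁻¹ = bi at *
      generalize α ^ q = β at *
      grind
    rcases mul_eq_zero.mp h4 with h5 | h5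
    · apply hβα; grind
    · apply hβα'
      generalize α⁻¹ = ai at *
      grind
  have ha : algebraMap F K τ = α + α⁻¹ + (α ^ q + (α ^ q)⁻¹) := by
    apply mul_left_cancel₀ hst
    generalize α⁻¹ = ai at *
    generalize (α ^ q)⁻¹ = bi at *
    generalize α ^ q = β at *
    grind
  have hb : algebraMap F K (θ τ) = (α + α⁻¹) * (α ^ q + (α ^ q)⁻¹) := by
    rw [ha] at hr'
    generalize α⁻¹ = ai at *
    generalize (α ^ q)⁻¹ = bi at *
    generalize α ^ q = β at *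
    grind
  refine ⟨?_, ?_, ?_⟩
  · have hint : IsIntegral F α := ⟨pp τ, pp_monic τ, by rwa [← aeval_def]⟩
    refine (eq_of_monic_of_dvd_of_natDegree_le (minpoly.monic hint) (pp_monic τ)
      (minpoly.dvd F α hr) ?_).symm
    rw [pp_natDegree, ← natDegree_map (algebraMap F K)]
    have hne : (minpoly F α).map (algebraMap F K) ≠ 0 :=
      ((minpoly.monic hint).map _).ne_zero
    have hc : ({α, α ^ q, α⁻¹, (α ^ q)⁻¹} : Finset K).card = 4 := by
      rw [Finset.card_eq_four]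
      refine ⟨_, _, _, _, hβα.symm, hαα.symm, ?_, hβα', hββ.symm, ?_, rfl⟩
      · intro he; exact hβα' (inv_eq_iff_eq_inv.mp he.symm)
      · intro he; exact hβα (inv_injective he).symm
    rw [← hc]
    apply card_le_degree_of_subset_roots
    have e0 := minpoly.aeval F α
    have e1 := hfr _ _ e0
    have e2 := hfr _ _ e1
    have e3 := hfr _ _ e2
    rw [h2'] at e2 e3
    rw [inv_pow] at e3
    intro x hx
    simp only [Finset.mem_val, Finset.mem_insert, Finset.mem_singleton] at hx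
    rw [mem_roots hne, IsRoot.def, eval_map_algebraMap]
    rcases hx with rfl | rfl | rfl | rfl <;> assumption
  · rw [ha, hb] at hρ
    have h4 : (α ^ r + α * α ^ q) * (α ^ r + α⁻¹ * (α ^ q)⁻¹) * (α ^ r + α * (α ^ q)⁻¹) *
        (α ^ r + α⁻¹ * α ^ q) = 0 := by rw [alg_fact1 hai hbi, hρ]
    have hcontra : (α ^ q) ^ 2 ≠ ((α ^ q)⁻¹) ^ 2 := fun he => by
      apply hββ
      have : ((α ^ q)⁻¹ + α ^ q) ^ 2 = 0 := by
        generalize (α ^ q)⁻¹ = bi at *
        grind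
      have := pow_eq_zero_iff (two_ne_zero) |>.mp this
      generalize (α ^ q)⁻¹ = bi at *
      grind
    simp only [mul_eq_zero, CharTwo.add_eq_zero] at h4
    rcases h4 with ((h4 | h4) | h4) | h4
    · right
      apply mul_right_cancel₀ (pow_ne_zero r hα0)
      rw [← pow_add, htm, one_mul, h4, pow_succ']
    · left
      rw [pow_add, pow_add, h4, pow_one]
      field_simp
    · exfalso
      apply hcontra
      rw [← hρr]
      nth_rewrite 1 [h4]
      rw [mul_pow, inv_pow, ← hρq, h4, mul_pow, inv_pow, h2']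
      field_simp
    · exfalso
      apply hcontra
      rw [← hρr]
      nth_rewrite 1 [h4]
      rw [mul_pow, inv_pow, ← hρq, h4, mul_pow, inv_pow, h2']
      field_simp
  · intro γ hγ
    rw [aeval_pp] at hγ
    simp only [Algebra.smul_def] at hγ
    rw [ha, hb] at hγ
    rw [h2, h3]
    have h4 : (γ + α) * (γ + α ^ q) * (γ + α⁻¹) * (γ + (α ^ q)⁻¹) = 0 := by
      rw [alg_fact2 hai hbi, hγ]
    simp only [mul_eq_zero, CharTwo.add_eq_zero] at h4
    tauto

omit h in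
theorem aeval_eq_zero_iff_dvd {A : Matrix (Fin 4) (Fin 4) F} {p : F[X]} (hp : Irreducible p)
    (hA : aeval A p = 0) (r : F[X]) : aeval A r = 0 ↔ p ∣ r := by
  constructor
  · intro hr
    by_contra hd
    obtain ⟨a, b, hab⟩ := (hp.coprime_iff_not_dvd).mpr hd
    have := congrArg (aeval A) hab
    simp [hA, hr] at this
  · rintro ⟨s, rfl⟩
    simp [hA]

omit h in
theorem exists_aeval_of_commute {A : Matrix (Fin 4) (Fin 4) F} {p : F[X]} (hp : Irreducible p)
    (hd : p.natDegree = 4) (hA : aeval A p = 0) {C : Matrix (Fin 4) (Fin 4) F}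
    (hC : C * A = A * C) : ∃ r : F[X], C = aeval A r := by
  let Φ : F[X] →ₗ[F] (Fin 4 → F) :=
    (Matrix.mulVecBilin F F).flip (vinf F) ∘ₗ (aeval A).toLinearMap
  have hΦ : ∀ r, Φ r = aeval A r *ᵥ vinf F := fun _ => rfl
  let Ψ : (Fin 4 → F) →ₗ[F] (Fin 4 → F) :=
    Φ ∘ₗ (degreeLT F 4).subtype ∘ₗ (degreeLTEquiv F 4).symm.toLinearMap
  have hinj : Function.Injective Ψ := by
    rw [injective_iff_map_eq_zero]
    intro c hc
    have h1 : Φ ((degreeLTEquiv F 4).symm c) = 0 := hc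
    suffices (degreeLTEquiv F 4).symm c = 0 by simpa using this
    generalize (degreeLTEquiv F 4).symm c = r at h1
    obtain ⟨r, hr⟩ := r
    rw [mem_degreeLT] at hr
    ext1
    by_contra h0
    have hnd : ¬ p ∣ r := fun hdv => by
      have h2 := natDegree_le_of_dvd hdv h0
      have h3 : r.natDegree < 4 := (natDegree_lt_iff_degree_lt h0).mpr hr
      omega
    obtain ⟨a, b, hab⟩ := (hp.coprime_iff_not_dvd).mpr hnd
    have h2 := congrArg (fun s => aeval A s *ᵥ vinf F) hab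
    simp only [map_add, map_mul, hA, mul_zero, zero_add, map_one, one_mulVec] at h2
    rw [← mulVec_mulVec, ← hΦ r, h1, mulVec_zero] at h2
    exact vinf_ne_zero h2.symm
  have hsurj : ∀ v, ∃ r, aeval A r *ᵥ vinf F = v := fun v => by
    obtain ⟨c, hc⟩ := LinearMap.injective_iff_surjective.mp hinj v
    exact ⟨_, hc⟩
  obtain ⟨r, hr⟩ := hsurj (C *ᵥ vinf F)
  refine ⟨r, ?_⟩
  have hcomm : ∀ s : F[X], C * aeval A s = aeval A s * C := fun s => by
    induction s using Polynomial.induction_on' with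
    | add p q hp hq => simp [mul_add, add_mul, hp, hq]
    | monomial n a =>
      have : Commute C A := hC
      simp [aeval_monomial, ← Algebra.smul_def, (this.pow_right n).eq]
  rw [Matrix.ext_iff_mulVec]
  intro v
  obtain ⟨s, rfl⟩ := hsurj v
  rw [mulVec_mulVec, mulVec_mulVec, hcomm, ← map_mul, mul_comm r s, map_mul, ← mulVec_mulVec,
    ← mulVec_mulVec, hr]

end Cfsg.Agent.Suz
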