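import Cfsg.Agent.Lib.Suz.Torus
import Cfsg.Agent.Lib.Suz.Map

/-! Subgroups of the Suzuki groups. -/

set_option autoImplicit false

namespace Cfsg.Agent.Suz

open MulAction

variable {F : Type*} [Field F] {m : ℕ} [h : SuzF F m]

/-- The multiplier field of an additive subgroup. -/
def stabField (A : AddSubgroup F) : Subfield F where
  carrier := {ν | ∀ a ∈ A, ν * a ∈ A}
  mul_mem' ha hb c hc := by rw [mul_assoc]; exact ha _ (hb _ hc)
  one_mem' c hc := by rwa [one_mul]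
  add_mem' ha hb c hc := by rw [add_mul]; exact add_mem (ha _ hc) (hb _ hc)
  zero_mem' c _ := by rw [zero_mul]; exact zero_mem _
  neg_mem' ha c hc := by rw [neg_mul]; exact neg_mem (ha _ hc)
  inv_mem' ν hν c hc := by
    by_cases h0 : ν = 0
    · rw [h0, inv_zero, zero_mul]; exact zero_mem _
    · let f : A → A := fun r => ⟨ν * r, hν r r.2⟩
      have hf : Function.Injective f := fun a b hab =>
        Subtype.ext (mul_left_cancel₀ h0 (congrArg Subtype.val hab))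
      obtain ⟨r, hr⟩ := Finite.surjective_of_injective hf ⟨c, hc⟩
      have : ν * r = c := congrArg Subtype.val hr
      rw [← this, inv_mul_cancel_left₀ h0]
      exact r.2

theorem mem_stabField {A : AddSubgroup F} {ν : F} : ν ∈ stabField A ↔ ∀ a ∈ A, ν * a ∈ A := Iff.rfl

theorem θ_mem {L : Subfield F} {x : F} (hx : x ∈ L) : θ x ∈ L := pow_mem hx _

theorem nm_mem_iff {L : Subfield F} {x : F} : x * θ x ∈ L ↔ x ∈ L := by
  refine ⟨fun hx => ?_, fun hx => mul_mem hx (θ_mem hx)⟩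
  by_cases h0 : x = 0
  · rw [h0]; exact zero_mem _
  · have := div_mem (θ_mem hx) hx
    have h1 := θ_ne_zero h0
    convert this using 1
    simp only [θ_mul, θ_θ]
    field_simp

include h in
theorem exists_card_subfield (L : Subfield F) : ∃ n, Nat.card L = 2 ^ n ∧ n ∣ 2 * m + 1 := by
  have := Fintype.ofFinite L
  obtain ⟨n, -, hn⟩ := FiniteField.card L 2
  refine ⟨n, by rw [Nat.card_eq_fintype_card, hn], Module.finrank L F, ?_⟩
  have h1 := Module.natCard_eq_pow_finrank (K := L) (V := F)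
  rw [card_F, Nat.card_eq_fintype_card, hn, ← pow_mul] at h1
  exact Nat.pow_right_injective le_rfl h1

include h in
theorem exists_suzF_subfield (L : Subfield F) (hL : ∃ t ∈ L, t ≠ 0 ∧ t ≠ 1) :
    ∃ k, SuzF L k ∧ 2 * k + 1 ∣ 2 * m + 1 := by
  obtain ⟨n, hn, hd⟩ := exists_card_subfield L
  obtain ⟨k, rfl⟩ : Odd n := (odd_two_mul_add_one m).of_dvd_nat hd
  refine ⟨k, ⟨inferInstance, hn, ?_⟩, hd⟩
  by_contra hk
  obtain rfl : k = 0 := by omega
  obtain ⟨t, ht, h0, h1⟩ := hL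
  obtain ⟨y, -, hy⟩ := (Nat.card_eq_two_iff' (0 : L)).mp hn
  have e1 := hy ⟨t, ht⟩ (fun he => h0 (congrArg Subtype.val he))
  have e2 := hy 1 one_ne_zero
  exact h1 (congrArg Subtype.val (e1.trans e2.symm))

theorem subfield_eq_of_suzF {L L' : Subfield F} {k : ℕ} [SuzF L k] [SuzF L' k] : L = L' := by
  have key : ∀ (L L' : Subfield F) [SuzF L k] [SuzF L' k], L ≤ L' := by
    intro L L' _ _ x hx
    have h1 : x ^ 2 ^ (2 * k + 1) = x := congrArg Subtype.val (pow_q (⟨x, hx⟩ : L))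
    obtain ⟨y, rfl⟩ := mem_range_of_pow_q (F := L') h1
    exact y.2
  exact le_antisymm (key L L') (key L' L)

/-- The subfield subgroup. -/
def subSz (L : Subfield F) : Subgroup (G F m) :=
  Subgroup.closure ({g | ∃ a ∈ L, ∃ b ∈ L, g = u a b} ∪ {g | ∃ μ : Fˣ, (μ : F) ∈ L ∧ g = hh μ} ∪ {w})

theorem u_mem_subSz {L : Subfield F} {a b : F} (ha : a ∈ L) (hb : b ∈ L) : u a b ∈ subSz L :=
  Subgroup.subset_closure (Or.inl (Or.inl ⟨a, ha, b, hb, rfl⟩))

theorem hh_mem_subSz {L : Subfield F} {μ : Fˣ} (hμ : (μ : F) ∈ L) : hh μ ∈ subSz L :=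
  Subgroup.subset_closure (Or.inl (Or.inr ⟨μ, hμ, rfl⟩))

theorem w_mem_subSz {L : Subfield F} : w ∈ subSz L :=
  Subgroup.subset_closure (Or.inr rfl)

theorem subSz_le {L : Subfield F} {M : Subgroup (G F m)} (hU : ∀ a ∈ L, ∀ b ∈ L, u a b ∈ M)
    (hH : ∀ μ : Fˣ, (μ : F) ∈ L → hh μ ∈ M) (hw : w ∈ M) : subSz L ≤ M := by
  rw [subSz, Subgroup.closure_le]
  rintro _ ((⟨a, ha, b, hb, rfl⟩ | ⟨μ, hμ, rfl⟩) | rfl)
  exacts [hU a ha b hb, hH μ hμ, hw]

theorem subSz_top : subSz (⊤ : Subfield F) = ⊤ :=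
  eq_top_of_mem (fun _ _ => u_mem_subSz trivial trivial) (fun _ => hh_mem_subSz trivial) w_mem_subSz

theorem range_mapG {K : Type*} [Field K] {k : ℕ} [SuzF K k] {ι : K →+* F}
    (hι : ∀ x, ι (θ x) = θ (ι x)) : (mapG ι hι).range = subSz ι.fieldRange := by
  apply le_antisymm
  · rintro _ ⟨g, rfl⟩
    induction g using induction_gen with
    | hU a b => rw [mapG_u]; exact u_mem_subSz ⟨a, rfl⟩ ⟨b, rfl⟩
    | hH μ => rw [mapG_hh]; exact hh_mem_subSz ⟨μ, rfl⟩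
    | hw => rw [mapG_w]; exact w_mem_subSz
    | hmul x y hx hy => rw [map_mul]; exact mul_mem hx hy
  · apply subSz_le
    · rintro _ ⟨a, rfl⟩ _ ⟨b, rfl⟩
      exact ⟨u a b, mapG_u hι a b⟩
    · rintro μ ⟨a, ha⟩
      have h0 : a ≠ 0 := by rintro rfl; exact μ.ne_zero (by simpa using ha.symm)
      exact ⟨hh (Units.mk0 a h0), by rw [mapG_hh, hh_inj]; exact Units.ext ha⟩
    · exact ⟨w, mapG_w hι⟩

theorem nonempty_subSz_equiv {K : Type*} [Field K] {k : ℕ} [SuzF K k] (ι : K →+* F)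
    (hd : 2 * k + 1 ∣ 2 * m + 1) : Nonempty (subSz ι.fieldRange ≃* G K k) :=
  ⟨((MonoidHom.ofInjective (mapG_injective (map_θ_of_dvd ι hd))).trans
    (MulEquiv.subgroupCongr (range_mapG _))).symm⟩

theorem nonempty_subSz_equiv' (L : Subfield F) {k : ℕ} [SuzF L k]
    (hd : 2 * k + 1 ∣ 2 * m + 1) : Nonempty (subSz L ≃* G L k) := by
  have := nonempty_subSz_equiv L.subtype hd
  rwa [Subfield.fieldRange_subtype] at this

/-! ### Involutions in a subgroup -/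

theorem exists_conj_invol_mem {M : Subgroup (G F m)} {i j : G F m} (hiM : i ∈ M) (hjM : j ∈ M)
    (hi : i * i = 1) (hj : j * j = 1) (ht : tr (i * j) ≠ 0) :
    ∃ t ∈ M, t * t = 1 ∧ t * i * t⁻¹ = j := by
  obtain ⟨k, hk⟩ := ss_odd_orderOf ht
  have h1 : (i * j) ^ (2 * k + 1) = 1 := by rw [← hk, pow_orderOf_eq_one]
  have hi' : i⁻¹ = i := inv_eq_of_mul_eq_one_right hi
  have hj' : j⁻¹ = j := inv_eq_of_mul_eq_one_right hj
  have h2 : i * (i * j) ^ k * i⁻¹ = ((i * j) ^ k)⁻¹ := by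
    rw [← conj_pow, ← inv_pow, mul_inv_rev, hi', hj', ← mul_assoc, hi, one_mul]
  have h3 : (i * j) ^ k * (i * j) ^ k = j * i := by
    rw [← pow_add, ← two_mul, ← mul_left_inj (i * j), ← pow_succ, h1, mul_assoc, ← mul_assoc i, hi,
      one_mul, hj]
  refine ⟨(i * j) ^ k * i, mul_mem (pow_mem (mul_mem hiM hjM) _) hiM, ?_, ?_⟩
  · calc _ = (i * j) ^ k * (i * (i * j) ^ k * i⁻¹) := by rw [hi']; group
      _ = 1 := by rw [h2, mul_inv_cancel]
  · calc _ = (i * j) ^ k * (i * ((i * j) ^ k)⁻¹ * i⁻¹) * i := by group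
      _ = (i * j) ^ k * (i * (i * j) ^ k * i⁻¹)⁻¹ * i := by group
      _ = j := by rw [h2, inv_inv, h3, mul_assoc, hi, mul_one]

theorem tr_mul_ne_zero {b : F} (hb : b ≠ 0) {j : G F m} (hj : j * j = 1) (hB : j ∉ B F) :
    tr (u 0 b * j) ≠ 0 := by
  obtain ⟨c, d, ν, rfl⟩ := invol_not_mem_B hj hB
  obtain ⟨b', hb'⟩ := conj_mem_Z (u_mem_Z b) (x := (u c d * hh ν)⁻¹)
    (inv_mem (mul_mem (by simp) (by simp)))
  have : (u 0 b * (u c d * hh ν * w * (u c d * hh ν)⁻¹) : G F m) =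
      u c d * hh ν * (u 0 b' * w) * (u c d * hh ν)⁻¹ := by rw [← hb']; group
  rw [this, tr_conj, tr_z_w]
  intro h0
  rw [θ_eq_zero] at h0
  rw [h0, u_zero_zero, conj_eq_one_iff, u_eq_one] at hb'
  exact hb hb'.2

theorem exists_swap {M : Subgroup (G F m)} {b : F} (hb : b ≠ 0) (hbM : u 0 b ∈ M) {j : G F m}
    (hjM : j ∈ M) (hj : j * j = 1) (hj1 : j ≠ 1) {x y : F} (hfix : j • (pt x y : Pt F m) = pt x y) :
    ∃ t ∈ M, t * u 0 b * t⁻¹ = j ∧ t • (inf : Pt F m) = pt x y ∧ t • (pt x y : Pt F m) = inf := by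
  have hB : j ∉ B F := fun hB => pt_ne_inf x y (fix_unique (tr_eq_zero_of_sq hj) hj1 hfix hB)
  obtain ⟨t, htM, ht, he⟩ := exists_conj_invol_mem hbM hjM (sq_of_mem_Z (u_mem_Z b)) hj
    (tr_mul_ne_zero hb hj hB)
  have h1 : t • (inf : Pt F m) = pt x y := by
    refine fix_unique (tr_eq_zero_of_sq hj) hj1 ?_ hfix
    rw [← he, mul_smul, mul_smul, inv_smul_smul, u_smul_inf]
  exact ⟨t, htM, he, h1, by rw [← h1, ← mul_smul, ht, one_smul]⟩

theorem exists_fix_conj {M : Subgroup (G F m)} {b b' : F} (hb : b ≠ 0) (hbM : u 0 b ∈ M)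
    (hb' : b' ≠ 0) (hbM' : u 0 b' ∈ M) {j : G F m}
    (hjM : j ∈ M) (hj : j * j = 1) (hj1 : j ≠ 1) {x y : F} (hfix : j • (pt x y : Pt F m) = pt x y) :
    ∃ k ∈ M, k * u 0 b * k⁻¹ = u 0 b' ∧ k • (inf : Pt F m) = inf ∧
      k • (pt x y : Pt F m) = pt x y := by
  obtain ⟨t, htM, h1, h2, h3⟩ := exists_swap hb hbM hjM hj hj1 hfix
  obtain ⟨t', htM', h1', h2', h3'⟩ := exists_swap hb' hbM' hjM hj hj1 hfix
  refine ⟨t'⁻¹ * t, mul_mem (inv_mem htM') htM, ?_, ?_, ?_⟩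
  · calc _ = t'⁻¹ * (t * u 0 b * t⁻¹) * t' := by group
      _ = _ := by rw [h1, ← h1']; group
  · rw [mul_smul, h2, inv_smul_eq_iff, h2']
  · rw [mul_smul, h3, inv_smul_eq_iff, h3']

/-- The central involutions of `U` in `M`. -/
def zPart (M : Subgroup (G F m)) : AddSubgroup F where
  carrier := {b | u 0 b ∈ M}
  add_mem' {a b} ha hb := by
    have := M.mul_mem ha hb
    simpa [u_mul_u] using this
  zero_mem' := by simp
  neg_mem' {a} ha := by rwa [CharTwo.neg_eq]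

theorem mem_zPart {M : Subgroup (G F m)} {b : F} : b ∈ zPart M ↔ u 0 b ∈ M := Iff.rfl

/-- Normalised hypotheses on a large subgroup. -/
structure Big (M : Subgroup (G F m)) : Prop where
  two : ∃ b b' : F, b ≠ 0 ∧ b' ≠ 0 ∧ b ≠ b' ∧ u 0 b ∈ M ∧ u 0 b' ∈ M
  zero : ∃ j ∈ M, j * j = 1 ∧ j ≠ 1 ∧ j • (pt 0 0 : Pt F m) = pt 0 0

theorem mem_stab_of_mem {M : Subgroup (G F m)} {a b : F} {μ : Fˣ} (hg : u a b * hh μ ∈ M) :
    (μ : F) ∈ stabField (zPart M) := by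
  rw [← nm_mem_iff]
  intro c hc
  rw [mem_zPart, ← B_conj_z a b]
  exact mul_mem (mul_mem hg hc) (inv_mem hg)

theorem Big.exists_hh {M : Subgroup (G F m)} (hM : Big M) {b b' : F} (hb : b ≠ 0) (hbM : u 0 b ∈ M)
    (hb' : b' ≠ 0) (hbM' : u 0 b' ∈ M) : ∃ μ : Fˣ, hh μ ∈ M ∧ μ * θ (μ : F) * b = b' := by
  obtain ⟨j, hjM, hj, hj1, hfix⟩ := hM.zero
  obtain ⟨k, hkM, h1, h2, h3⟩ := exists_fix_conj hb hbM hb' hbM' hjM hj hj1 hfix
  obtain ⟨μ, rfl⟩ := eq_hh_of_fix h2 h3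
  rw [hh_conj_u, u_inj] at h1
  exact ⟨μ, hkM, h1.2⟩

theorem Big.div_mem {M : Subgroup (G F m)} (hM : Big M) {b b' : F} (hb : b ≠ 0) (hbM : u 0 b ∈ M)
    (hbM' : u 0 b' ∈ M) : b' / b ∈ stabField (zPart M) := by
  by_cases hb' : b' = 0
  · rw [hb', zero_div]; exact zero_mem _
  · obtain ⟨μ, hμ, rfl⟩ := hM.exists_hh hb hbM hb' hbM'
    rw [mul_div_cancel_right₀ _ hb, nm_mem_iff]
    exact mem_stab_of_mem (a := 0) (b := 0) (by simpa using hμ)

theorem Big.hh_mem {M : Subgroup (G F m)} (hM : Big M) {μ : Fˣ}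
    (hμ : (μ : F) ∈ stabField (zPart M)) : hh μ ∈ M := by
  obtain ⟨b, -, hb, -, -, hbM, -⟩ := hM.two
  obtain ⟨ν, hν, he⟩ := hM.exists_hh hb hbM
    (mul_ne_zero (mul_ne_zero μ.ne_zero (θ_ne_zero μ.ne_zero)) hb) (nm_mem_iff.mpr hμ b hbM)
  have : ν = μ := Units.ext (nm_inj.mp (mul_right_cancel₀ hb he))
  rwa [← this]

theorem Big.u_mem_of {M : Subgroup (G F m)} (hM : Big M) {a b : F} {μ : Fˣ}
    (hg : u a b * hh μ ∈ M) : u a b ∈ M :=
  (M.mul_mem_cancel_right (hM.hh_mem (mem_stab_of_mem hg))).mp hg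

theorem eq_one_of_mem_U_H {g : G F m} (h1 : g ∈ U F) (h2 : g ∈ H F) : g = 1 :=
  eq_one_of_mem_U_of_fix h1 (pt_ne_inf 0 0) (mem_H_iff_fix.mp h2).2

theorem Big.u_mem_of_fix {M : Subgroup (G F m)} (hM : Big M) {j : G F m}
    (hjM : j ∈ M) (hj : j * j = 1) (hj1 : j ≠ 1) {x y : F} (hfix : j • (pt x y : Pt F m) = pt x y) :
    u x y ∈ M := by
  obtain ⟨b, b', hb, hb', hne, hbM, hbM'⟩ := hM.two
  obtain ⟨k, hkM, h1, h2, h3⟩ := exists_fix_conj hb hbM hb' hbM' hjM hj hj1 hfix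
  obtain ⟨a, c, μ, rfl⟩ := mem_B_iff.mp h2
  have hμ : μ ≠ 1 := by
    rintro rfl
    rw [B_conj_z, u_inj] at h1
    exact hne (by simpa using h1.2)
  have hh1 := hM.hh_mem (mem_stab_of_mem hkM)
  let f : ↥(M ⊓ U F) → ↥(M ⊓ U F) := fun s => ⟨s * (hh μ * (s : G F m)⁻¹ * (hh μ)⁻¹),
    mul_mem s.2 ⟨M.mul_mem (M.mul_mem hh1 (M.inv_mem s.2.1)) (M.inv_mem hh1),
      conj_mem_U ((U F).inv_mem s.2.2) (hh_mem_B μ)⟩⟩
  have hf : Function.Injective f := by
    rintro ⟨s, hs⟩ ⟨s', hs'⟩ he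
    have h4 : s * (hh μ * s⁻¹ * (hh μ)⁻¹) = s' * (hh μ * s'⁻¹ * (hh μ)⁻¹) := congrArg Subtype.val he
    have h5 : s'⁻¹ * s ∈ H F := by
      rw [← centralizer_hh hμ, mem_cent]
      calc s'⁻¹ * s * hh μ = s'⁻¹ * (s * (hh μ * s⁻¹ * (hh μ)⁻¹)) * hh μ * s := by group
        _ = _ := by rw [h4]; group
    have h6 := eq_one_of_mem_U_H (mul_mem (inv_mem hs'.2) hs.2) h5
    exact Subtype.ext (inv_mul_eq_one.mp h6).symm
  obtain ⟨⟨s, hsM, c', d', rfl⟩, hs⟩ := Finite.surjective_of_injective hf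
    ⟨u a c, hM.u_mem_of hkM, u_mem_U a c⟩
  have h4 : (u c' d' * (hh μ * (u c' d')⁻¹ * (hh μ)⁻¹) : G F m) = u a c := congrArg Subtype.val hs
  have h5 : (hh μ : G F m) • (u c' d' : G F m)⁻¹ • (pt x y : Pt F m) =
      (u c' d' : G F m)⁻¹ • pt x y := by
    rw [eq_inv_smul_iff, ← mul_smul, ← mul_smul]
    convert h3 using 2
    rw [← h4]; group
  rcases hh_fix hμ h5 with h6 | h6
  · rw [inv_smul_eq_iff, u_smul_inf] at h6
    exact absurd h6 (pt_ne_inf x y)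
  · rw [inv_smul_eq_iff, u_smul_zero, pt_inj] at h6
    rw [h6.1, h6.2]; exact hsM

theorem Big.exists_w {M : Subgroup (G F m)} (hM : Big M) : ∃ μ : Fˣ, hh μ * w ∈ M ∧
    ∀ b : F, b ≠ 0 → u 0 b ∈ M → u (μ * (b / θ b)) 0 ∈ M := by
  obtain ⟨b0, -, hb0, -, -, hbM0, -⟩ := hM.two
  obtain ⟨j, hjM, hj, hj1, hfix⟩ := hM.zero
  obtain ⟨t, htM, -, h2, h3⟩ := exists_swap hb0 hbM0 hjM hj hj1 hfix
  obtain ⟨μ, rfl⟩ := eq_hh_mul_w_of_swap h2 h3
  refine ⟨μ, htM, fun b hb hbM => ?_⟩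
  have hx := mul_mem htM hbM
  refine hM.u_mem_of_fix (mul_mem (mul_mem hx hjM) (inv_mem hx))
    (by rw [conj_mul, hj, mul_one, mul_inv_cancel]) (by rwa [Ne, conj_eq_one_iff]) ?_
  have h4 : (hh μ * w * u 0 b : G F m) • (pt 0 0 : Pt F m) = pt (μ * (b / θ b)) 0 := by
    rw [mul_smul, mul_smul, u_smul_zero, w_smul_pt (by simpa using hb)]; simp
  rw [← h4, mul_smul, mul_smul (hh μ * w * u 0 b), inv_smul_smul, hfix]

theorem Big.eq_subSz {M : Subgroup (G F m)} (hM : Big M) (h1 : u 1 0 ∈ M) :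
    M = subSz (stabField (zPart M)) := by
  have hz : u 0 1 ∈ M := by simpa [u_sq] using pow_mem h1 2
  have hA : ∀ b : F, u 0 b ∈ M ↔ b ∈ stabField (zPart M) := fun b =>
    ⟨fun hb => by simpa using hM.div_mem one_ne_zero hz hb, fun hb => by simpa [mem_zPart] using hb 1 hz⟩
  have ha0 : ∀ a ∈ stabField (zPart M), u a 0 ∈ M := fun a ha => by
    by_cases h0 : a = 0
    · simp [h0]
    · have h2 := hM.hh_mem (μ := Units.mk0 a h0) ha
      simpa [hh_conj_u] using mul_mem (mul_mem h2 h1) (inv_mem h2)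
  have hu : ∀ a b : F, u a b ∈ M ↔ a ∈ stabField (zPart M) ∧ b ∈ stabField (zPart M) := by
    intro a b
    have he : (u a b : G F m) = u a 0 * u 0 b := by simp [u_mul_u]
    constructor
    · intro hab
      have h2 : a ∈ stabField (zPart M) := by
        rw [← nm_mem_iff, ← hA, ← u_sq a b]; exact pow_mem hab 2
      rw [he, M.mul_mem_cancel_left (ha0 a h2), hA] at hab
      exact ⟨h2, hab⟩
    · rintro ⟨ha, hb⟩
      rw [he]; exact mul_mem (ha0 a ha) ((hA b).mpr hb)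
  have hw : w ∈ M := by
    obtain ⟨μ, h2, h3⟩ := hM.exists_w
    have h4 := ((hu _ _).mp (h3 1 one_ne_zero hz)).1
    exact (M.mul_mem_cancel_left (hM.hh_mem (by simpa using h4))).mp h2
  have hB : ∀ g ∈ M, g ∈ B F → g ∈ subSz (stabField (zPart M)) := fun g hg hgB => by
    obtain ⟨a, b, μ, rfl⟩ := mem_B_iff.mp hgB
    obtain ⟨ha, hb⟩ := (hu a b).mp (hM.u_mem_of hg)
    exact mul_mem (u_mem_subSz ha hb) (hh_mem_subSz (mem_stab_of_mem hg))
  refine le_antisymm (fun g hg => ?_)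
    (subSz_le (fun a ha b hb => (hu a b).mpr ⟨ha, hb⟩) (fun μ hμ => hM.hh_mem hμ) hw)
  by_cases hgB : g ∈ B F
  · exact hB g hg hgB
  · obtain ⟨x, y, he⟩ := exists_eq_pt (α := g⁻¹ • (inf : Pt F m))
      fun he => hgB (inv_mem_iff.mp he)
    have h2 : u x y ∈ M := hM.u_mem_of_fix (mul_mem (mul_mem (inv_mem hg) hz) (inv_mem (inv_mem hg)))
      (by rw [conj_mul, sq_of_mem_Z (u_mem_Z 1)]; simp)
      (by rw [Ne, conj_eq_one_iff]; simp [u_eq_one])
      (by rw [← he, mul_smul, mul_smul, inv_smul_smul, u_smul_inf])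
    have h3 := hB (g * u x y * w) (mul_mem (mul_mem hg h2) hw) (by
      rw [mem_B, mul_smul, mul_smul, w_smul_inf, u_smul_zero, ← he, smul_inv_smul])
    obtain ⟨hx, hy⟩ := (hu x y).mp h2
    rwa [Subgroup.mul_mem_cancel_right _ w_mem_subSz,
      Subgroup.mul_mem_cancel_right _ (u_mem_subSz hx hy)] at h3

/-- Pull back of a subgroup along conjugation. -/
def cj (x : G F m) (M : Subgroup (G F m)) : Subgroup (G F m) :=
  M.comap (MulAut.conj x).toMonoidHom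

omit h in
theorem mem_cj {x g : G F m} {M : Subgroup (G F m)} : g ∈ cj x M ↔ x * g * x⁻¹ ∈ M := Iff.rfl

theorem Big.exists_conj {M : Subgroup (G F m)} (hM : Big M) :
    ∃ (x : G F m) (L : Subfield F), (∃ t ∈ L, t ≠ 0 ∧ t ≠ 1) ∧ cj x M = subSz L := by
  obtain ⟨μ, -, h1⟩ := hM.exists_w
  obtain ⟨b, b', hb, hb', hne, hbM, hbM'⟩ := hM.two
  obtain ⟨j, hjM, hj, hj1, hfix⟩ := hM.zero
  have ha : (μ : F) * (b / θ b) ≠ 0 := mul_ne_zero μ.ne_zero (div_ne_zero hb (θ_ne_zero hb))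
  set ν := Units.mk0 _ ha
  have hn : (ν : F) * θ (ν : F) ≠ 0 := mul_ne_zero ν.ne_zero (θ_ne_zero ν.ne_zero)
  have hM' : Big (cj (hh ν) M) := by
    constructor
    · refine ⟨b / (ν * θ (ν : F)), b' / (ν * θ (ν : F)), div_ne_zero hb hn, div_ne_zero hb' hn,
        fun he => hne ((div_left_inj' hn).mp he), ?_, ?_⟩ <;>
      rw [mem_cj, hh_conj_u, mul_zero, mul_div_cancel₀ _ hn] <;> assumption
    · refine ⟨(hh ν)⁻¹ * j * (hh ν)⁻¹⁻¹, by simpa [mem_cj, mul_assoc] using hjM,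
        by rw [conj_mul, hj]; simp, by rw [Ne, conj_eq_one_iff]; exact hj1, ?_⟩
      simp [mul_smul, hfix, hh_inv]
  refine ⟨hh ν, _, ?_, hM'.eq_subSz (by simpa [mem_cj, hh_conj_u, ν] using h1 b hb hbM)⟩
  obtain ⟨c, c', hc, hc', hne', hcM, hcM'⟩ := hM'.two
  exact ⟨c' / c, hM'.div_mem hc hcM hcM', div_ne_zero hc' hc,
    fun he => hne' (div_eq_one_iff_eq hc |>.mp he).symm⟩

theorem exists_conj_eq_subSz {M : Subgroup (G F m)} {i i' j : G F m} (hiM : i ∈ M) (hiM' : i' ∈ M)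
    (hjM : j ∈ M) (hi : i * i = 1) (hi' : i' * i' = 1) (hj : j * j = 1) (hi1 : i ≠ 1)
    (hi1' : i' ≠ 1) (hne : i ≠ i') (hc : i' * i = i * i') (hnc : j * i ≠ i * j) :
    ∃ (x : G F m) (L : Subfield F), (∃ t ∈ L, t ≠ 0 ∧ t ≠ 1) ∧ cj x M = subSz L := by
  have hj1 : j ≠ 1 := by rintro rfl; simp at hnc
  obtain ⟨α, hα⟩ := exists_fix_of_tr (tr_eq_zero_of_sq hi)
  obtain ⟨β, hβ⟩ := exists_fix_of_tr (tr_eq_zero_of_sq hj)
  have hZ : ∀ (x k : G F m), k * k = 1 → k • x • (inf : Pt F m) = x • inf →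
      ∃ b, k = x * u 0 b * x⁻¹ := fun x k hk hfix => by
    obtain ⟨b, hb⟩ := mem_Z_of_sq (g := x⁻¹ * k * x⁻¹⁻¹) (mem_U_of_tr
      (by rw [mem_B, inv_inv, mul_smul, mul_smul, hfix, inv_smul_smul])
      (by rw [tr_conj, tr_eq_zero_of_sq hk])) (by rw [conj_mul, hk]; simp)
    exact ⟨b, by rw [← hb]; group⟩
  have hαβ : α ≠ β := by
    rintro rfl
    obtain ⟨x, rfl⟩ := exists_smul_inf_eq α
    obtain ⟨b, rfl⟩ := hZ x i hi hα
    obtain ⟨c, rfl⟩ := hZ x j hj hβ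
    exact hnc (by rw [conj_mul, conj_mul, u_comm_z])
  obtain ⟨x, rfl, rfl⟩ := exists_smul_pair hαβ
  have hα' : i' • x • (inf : Pt F m) = x • inf :=
    fix_unique (tr_eq_zero_of_sq hi) hi1 (by rw [← mul_smul i i', ← hc, mul_smul, hα]) hα
  obtain ⟨b, rfl⟩ := hZ x i hi hα
  obtain ⟨b', rfl⟩ := hZ x i' hi' hα'
  have hM : Big (cj x M) := by
    constructor
    · refine ⟨b, b', ?_, ?_, ?_, hiM, hiM'⟩
      · rintro rfl; simp at hi1
      · rintro rfl; simp at hi1'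
      · rintro rfl; exact hne rfl
    · refine ⟨x⁻¹ * j * x⁻¹⁻¹, by simpa [mem_cj, mul_assoc] using hjM,
        by rw [conj_mul, hj]; simp, by rw [Ne, conj_eq_one_iff]; exact hj1, ?_⟩
      rw [inv_inv, mul_smul, mul_smul, hβ, inv_smul_smul]
  obtain ⟨y, L, hL, he⟩ := hM.exists_conj
  refine ⟨x * y, L, hL, ?_⟩
  rw [← he]
  ext g
  simp only [mem_cj, mul_assoc, mul_inv_rev]

theorem mem_normalizer_cent {c g : G F m} (hc : tr c ≠ 0)
    (hg : g * c * g⁻¹ * c = c * (g * c * g⁻¹)) :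
    g ∈ Subgroup.normalizer (Subgroup.centralizer ({c} : Set (G F m)) : Set (G F m)) := by
  have h1 := ss_cent_eq hc hg (by rw [Ne, conj_eq_one_iff]; exact ne_one_of_tr hc)
  rw [Subgroup.mem_normalizer_iff]
  intro k
  nth_rewrite 2 [← h1]
  rw [mem_cent_conj]
  simp [mul_assoc]

theorem cases_of_comm {M : Subgroup (G F m)} {c : G F m} (h1 : c ≠ 1)
    (hc : ∀ g ∈ M, g * c * g⁻¹ * c = c * (g * c * g⁻¹)) :
    (∃ α : Pt F m, ∀ g ∈ M, g • α = α) ∨ ∃ c : G F m, tr c ≠ 0 ∧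
      M ≤ Subgroup.normalizer (Subgroup.centralizer ({c} : Set (G F m)) : Set (G F m)) := by
  by_cases ht : tr c = 0
  · left
    obtain ⟨α, hα⟩ := exists_fix_of_tr ht
    refine ⟨α, fun g hg => ?_⟩
    have h2 : (g * c * g⁻¹) • α = α :=
      fix_unique ht h1 (by rw [← mul_smul c, ← hc g hg, mul_smul, hα]) hα
    exact fix_unique (g := g * c * g⁻¹) (by rw [tr_conj, ht]) (by rwa [Ne, conj_eq_one_iff])
      (by rw [mul_smul, mul_smul, inv_smul_smul, hα]) h2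
  · exact Or.inr ⟨c, ht, fun g hg => mem_normalizer_cent ht (hc g hg)⟩

theorem isCyclic_of_unique_invol {P : Subgroup (G F m)} (hP : IsPGroup 2 P)
    (hu : ∀ i ∈ P, ∀ i' ∈ P, i * i = 1 → i' * i' = 1 → i ≠ 1 → i' ≠ 1 → i = i') : IsCyclic P := by
  suffices ∃ y ∈ P, ∀ g ∈ P, g ∈ Subgroup.zpowers y by
    obtain ⟨y, hy, h1⟩ := this
    have : P = Subgroup.zpowers y := le_antisymm h1 (Subgroup.zpowers_le.mpr hy)
    rw [this]; infer_instance
  by_cases h1 : ∃ y ∈ P, y * y ≠ 1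
  · obtain ⟨y, hy, hy2⟩ := h1
    obtain ⟨x, hx⟩ := exists_conj_le_U hP
    have hx' : ∀ g ∈ P, ∃ a b : F, g = x * u a b * x⁻¹ := fun g hg => by
      obtain ⟨a, b, he⟩ := hx g hg
      exact ⟨a, b, by rw [← he]; group⟩
    have h4 : ∀ g ∈ P, g * g * (g * g) = 1 := fun g hg => by
      obtain ⟨a, b, rfl⟩ := hx' g hg
      rw [conj_mul, conj_mul, ← sq (u a b), u_sq, sq_of_mem_Z (u_mem_Z _)]; simp
    have h2 : ∀ g ∈ P, g * g = 1 → g ∈ Subgroup.zpowers y := fun g hg hg2 => by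
      by_cases hg1 : g = 1
      · rw [hg1]; exact one_mem _
      · rw [hu g hg (y * y) (mul_mem hy hy) hg2 (h4 y hy) hg1 hy2]
        exact mul_mem (Subgroup.mem_zpowers y) (Subgroup.mem_zpowers y)
    refine ⟨y, hy, fun g hg => ?_⟩
    by_cases hg2 : g * g = 1
    · exact h2 g hg hg2
    · have h3 := hu _ (mul_mem hg hg) _ (mul_mem hy hy) (h4 g hg) (h4 y hy) hg2 hy2
      have h5 := h2 _ (mul_mem hy hg) (by
        obtain ⟨a, b, rfl⟩ := hx' g hg
        obtain ⟨c, d, rfl⟩ := hx' y hy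
        rw [conj_mul, conj_mul, ← sq, ← sq, u_sq, u_sq, mul_left_inj, mul_right_inj, u_inj,
          nm_inj] at h3
        rw [conj_mul, conj_mul, u_mul_u, h3.2, add_self', sq_of_mem_Z (u_mem_Z _)]; simp)
      exact (Subgroup.mul_mem_cancel_left _ (Subgroup.mem_zpowers y)).mp h5
  · push Not at h1
    by_cases h2 : ∃ y ∈ P, y ≠ 1
    · obtain ⟨y, hy, hy1⟩ := h2
      refine ⟨y, hy, fun g hg => ?_⟩
      by_cases hg1 : g = 1
      · rw [hg1]; exact one_mem _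
      · rw [hu g hg y hy (h1 g hg) (h1 y hy) hg1 hy1]; exact Subgroup.mem_zpowers y
    · push Not at h2
      exact ⟨1, one_mem _, fun g hg => by rw [h2 g hg]; exact one_mem _⟩

theorem isCyclic_of_odd_pGroup {p : ℕ} (hp : p.Prime) (h2 : p ≠ 2) {P : Subgroup (G F m)}
    (hP : IsPGroup p P) : IsCyclic P := by
  have : Fact p.Prime := ⟨hp⟩
  rcases subsingleton_or_nontrivial P with hs | hs
  · infer_instance
  · have hnt := hP.center_nontrivial
    obtain ⟨⟨⟨z, hzP⟩, hz⟩, hz1⟩ := exists_ne (1 : Subgroup.center P)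
    have hz1' : z ≠ 1 := fun he => hz1 (Subtype.ext (Subtype.ext he))
    obtain ⟨k, hk⟩ := hP ⟨z, hzP⟩
    have hk' : z ^ p ^ k = 1 := congrArg Subtype.val hk
    have ht : tr z ≠ 0 := tr_ne_zero_of_odd hz1'
      (((hp.odd_of_ne_two h2).pow).of_dvd_nat (orderOf_dvd_of_pow_eq_one hk'))
    have := ss_isCyclic ht
    refine Subgroup.isCyclic_of_le (H' := Subgroup.centralizer {z}) fun a ha => mem_cent.mpr ?_
    exact congrArg Subtype.val (Subgroup.mem_center_iff.mp hz ⟨a, ha⟩)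

/-- The subgroups of the Suzuki group. -/
theorem subgroup_cases (M : Subgroup (G F m)) :
    (∃ α : Pt F m, ∀ g ∈ M, g • α = α) ∨ (∃ c : G F m, tr c ≠ 0 ∧
      M ≤ Subgroup.normalizer (Subgroup.centralizer ({c} : Set (G F m)) : Set (G F m))) ∨
    ∃ (x : G F m) (L : Subfield F), (∃ t ∈ L, t ≠ 0 ∧ t ≠ 1) ∧ cj x M = subSz L := by
  by_cases hbig : ∃ i ∈ M, ∃ i' ∈ M, i * i = 1 ∧ i' * i' = 1 ∧ i ≠ 1 ∧ i' ≠ 1 ∧ i ≠ i' ∧
      i' * i = i * i'
  · obtain ⟨i, hiM, i', hiM', hi, hi', hi1, hi1', hne, hc⟩ := hbig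
    by_cases hj : ∃ j ∈ M, j * j = 1 ∧ j * i ≠ i * j
    · obtain ⟨j, hjM, hj, hnc⟩ := hj
      exact Or.inr (Or.inr (exists_conj_eq_subSz hiM hiM' hjM hi hi' hj hi1 hi1' hne hc hnc))
    · push Not at hj
      rw [← or_assoc]
      exact Or.inl (cases_of_comm hi1 fun g hg =>
        hj _ (mul_mem (mul_mem hg hiM) (inv_mem hg)) (by rw [conj_mul, hi]; simp))
  · push Not at hbig
    rw [← or_assoc]
    left
    have : IsZGroup M := ⟨fun p hp P => by
      have hP : IsPGroup p ((P : Subgroup M).map M.subtype) := P.isPGroup'.map _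
      suffices IsCyclic ((P : Subgroup M).map M.subtype) from
        isCyclic_of_surjective _
          ((P : Subgroup M).equivMapOfInjective M.subtype M.subtype_injective).symm.surjective
      by_cases h2 : p = 2
      · subst h2
        refine isCyclic_of_unique_invol hP fun i hi i' hi' e1 e2 e3 e4 => ?_
        by_contra hne
        apply hbig i (Subgroup.map_subtype_le _ hi) i' (Subgroup.map_subtype_le _ hi') e1 e2 e3 e4 hne
        obtain ⟨x, hx⟩ := exists_conj_le_U hP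
        obtain ⟨b, hb⟩ := mem_Z_of_sq (g := x⁻¹ * i * x⁻¹⁻¹) (by simpa using hx i hi)
          (by rw [conj_mul, e1]; simp)
        obtain ⟨c, hc⟩ := mem_Z_of_sq (g := x⁻¹ * i' * x⁻¹⁻¹) (by simpa using hx i' hi')
          (by rw [conj_mul, e2]; simp)
        have := u_comm_z (m := m) 0 b c
        rw [← hb, ← hc, conj_mul, conj_mul] at this
        simpa using this.symm
      · exact isCyclic_of_odd_pGroup hp h2 hP⟩
    have hcyc := IsZGroup.isCyclic_commutator M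
    by_cases h1 : commutator M = ⊥
    · by_cases h2 : M = ⊥
      · exact Or.inl ⟨inf, fun g hg => by rw [h2, Subgroup.mem_bot] at hg; rw [hg, one_smul]⟩
      · obtain ⟨⟨c, hc⟩, hc1⟩ := (Subgroup.ne_bot_iff_exists_ne_one).mp h2
        refine cases_of_comm (c := c) (fun he => hc1 (Subtype.ext he)) fun g hg => ?_
        have h3 := Subgroup.commutator_mem_commutator (Subgroup.mem_top (⟨_,
          mul_mem (mul_mem hg hc) (inv_mem hg)⟩ : M)) (Subgroup.mem_top (⟨c, hc⟩ : M))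
        rw [← commutator_def, h1, Subgroup.mem_bot, commutatorElement_eq_one_iff_mul_comm] at h3
        exact congrArg Subtype.val h3
    · obtain ⟨⟨c, hc⟩, hc1⟩ := (Subgroup.ne_bot_iff_exists_ne_one).mp h1
      refine cases_of_comm (c := c) (fun he => hc1 (Subtype.ext (Subtype.ext he))) fun g hg => ?_
      have h3 := comm_of_isCyclic hcyc (Subgroup.Normal.conj_mem inferInstance c hc ⟨g, hg⟩) hc
      exact congrArg Subtype.val h3

end Cfsg.Agent.Suz
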