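import Cfsg.Agent.Lib.Suz.Trace

/-! The index two subgroup `{t + θ t}` and the classes of elements of order four. -/

set_option autoImplicit false

namespace Cfsg.Agent.Suz

variable {F : Type*} [Field F] {m : ℕ} [h : SuzF F m]

/-- The additive map `t ↦ t + θ t`. -/
def wp (F : Type*) [Field F] {m : ℕ} [SuzF F m] : F →+ F where
  toFun t := t + θ t
  map_zero' := by simp
  map_add' a b := by simp only [θ_add]; ring

/-- The image of `t ↦ t + θ t`. -/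
def RR (F : Type*) [Field F] {m : ℕ} [SuzF F m] : AddSubgroup F := (wp F).range

theorem mem_RR {y : F} : y ∈ RR F ↔ ∃ t, t + θ t = y := Iff.rfl

theorem add_θ_mem (t : F) : t + θ t ∈ RR F := ⟨t, rfl⟩

theorem one_not_mem_RR : (1 : F) ∉ RR F := fun ⟨t, ht⟩ => add_θ_ne_one t ht

theorem index_RR : (RR F).index = 2 := by
  rw [RR, AddSubgroup.index_range]
  have : ((wp F).ker : Set F) = {0, 1} := by
    ext t
    simp only [SetLike.mem_coe, AddMonoidHom.mem_ker, Set.mem_insert_iff, Set.mem_singleton_iff]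
    rw [← θ_eq_self_iff, eq_comm (b := t), ← CharTwo.add_eq_zero (a := t)]
    rfl
  rw [← SetLike.coe_sort_coe, this, Nat.card_coe_set_eq, Set.ncard_pair zero_ne_one]

theorem add_mem_RR_iff {a b : F} : a + b ∈ RR F ↔ (a ∈ RR F ↔ b ∈ RR F) :=
  AddSubgroup.add_mem_iff_of_index_two index_RR

theorem add_one_mem_RR_iff {a : F} : a + 1 ∈ RR F ↔ a ∉ RR F := by
  rw [add_mem_RR_iff]; simp [one_not_mem_RR]

theorem θ_mem_RR_iff {a : F} : θ a ∈ RR F ↔ a ∈ RR F := (add_mem_RR_iff.mp (add_θ_mem a)).symm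

theorem sq_mem_RR_iff {a : F} : a ^ 2 ∈ RR F ↔ a ∈ RR F := by
  rw [← θ_θ, θ_mem_RR_iff, θ_mem_RR_iff]

theorem eq_zero_of_mul_mem_RR {a : F} (ha : ∀ y, a * y ∈ RR F) : a = 0 := by
  by_contra h0
  exact one_not_mem_RR (by simpa [h0] using ha a⁻¹)

theorem exists_mul_not_mem_RR {ν : F} (h0 : ν ≠ 0) (h1 : ν ≠ 1) : ∃ r ∈ RR F, ν * r ∉ RR F := by
  by_contra hc
  push Not at hc
  have hsurj : ∀ y ∈ RR F, ∃ r ∈ RR F, ν * r = y := by
    let f : RR F → RR F := fun r => ⟨ν * r, hc r r.2⟩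
    have hf : Function.Injective f := fun a b hab =>
      Subtype.ext (mul_left_cancel₀ h0 (congrArg Subtype.val hab))
    intro y hy
    obtain ⟨r, hr⟩ := Finite.surjective_of_injective hf ⟨y, hy⟩
    exact ⟨r, r.2, congrArg Subtype.val hr⟩
  apply h1
  have : ν + 1 = 0 := eq_zero_of_mul_mem_RR fun y => by
    rw [add_mul, one_mul, add_mem_RR_iff]
    refine ⟨fun hy => ?_, hc y⟩
    obtain ⟨r, hr, he⟩ := hsurj _ hy
    rwa [← mul_left_cancel₀ h0 he]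
  exact CharTwo.add_eq_zero.mp this

theorem exists_quad_not_mem_RR (τ : F) : ∃ σ : F, τ * (σ ^ 2 * θ σ) + σ ^ 2 ∉ RR F := by
  by_contra hc
  push Not at hc
  have h1 : ∀ σ ρ : F, τ * (σ ^ 2 * θ ρ) + τ * (ρ ^ 2 * θ σ) ∈ RR F := by
    intro σ ρ
    have := add_mem (add_mem (hc (σ + ρ)) (hc σ)) (hc ρ)
    convert this using 1
    simp only [θ_add]; grind
  have h2 : ∀ ρ : F, τ * θ ρ + θ τ * θ ρ ^ 2 = 0 := by
    intro ρ
    apply eq_zero_of_mul_mem_RR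
    intro y
    obtain ⟨σ, rfl⟩ := exists_sq_eq y
    have := add_mem (h1 σ ρ) (add_θ_mem (τ * (ρ ^ 2 * θ σ)))
    convert this using 1
    simp only [θ_mul, θ_pow, θ_θ]; grind
  have h3 : τ = 0 := by
    obtain ⟨t, ht0, ht1⟩ := exists_ne_zero_one (F := F)
    have e1 := h2 1
    have e2 := h2 (φ t)
    simp only [θ_one, θ_φ] at e1 e2
    have : τ * t * (t + 1) = 0 := by grind
    have ht1' : t + 1 ≠ 0 := fun he => ht1 (CharTwo.add_eq_zero.mp he)
    simpa [ht0, ht1'] using this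
  subst h3
  exact one_not_mem_RR (by simpa using hc 1)

theorem exists_wp_eq {y : F} (hy : y ∈ RR F) (s : F) : ∃ t, t + θ t = y ∧ t + s ∈ RR F := by
  obtain ⟨t, rfl⟩ := mem_RR.mp hy
  by_cases ht : t + s ∈ RR F
  · exact ⟨t, rfl, ht⟩
  · refine ⟨t + 1, by simp only [θ_add, θ_one]; grind, ?_⟩
    rw [add_right_comm, add_one_mem_RR_iff]; exact ht

theorem isConj_u_u {a a' s s' : F} (ha : a ≠ 0) (ha' : a' ≠ 0) (hs : s + s' ∈ RR F) :
    IsConj (u a (a * θ a * s) : G F m) (u a' (a' * θ a' * s')) := by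
  obtain ⟨t, ht⟩ := hs
  have hμ : a' / a ≠ 0 := div_ne_zero ha' ha
  have hθ := θ_ne_zero ha
  refine isConj_iff.mpr ⟨u (a' * t) 0 * hh (Units.mk0 _ hμ), ?_⟩
  rw [B_conj_u, u_inj]
  simp only [Units.val_mk0, div_mul_cancel₀ _ ha, θ_div, θ_mul, true_and]
  have ht' : t + θ t = s + s' := ht
  field_simp
  grind

theorem exists_eq_u_nm {a : F} (ha : a ≠ 0) (b : F) : ∃ s, b = a * θ a * s :=
  ⟨b / (a * θ a), by have := θ_ne_zero ha; field_simp⟩

theorem u_inv_nm (a s : F) : (u a (a * θ a * s) : G F m)⁻¹ = u a (a * θ a * (s + 1)) := by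
  rw [u_inv]; congr 1; ring

theorem isConj_u_or {a a' : F} (ha : a ≠ 0) (ha' : a' ≠ 0) (b b' : F) :
    IsConj (u a b : G F m) (u a' b') ∨ IsConj (u a b : G F m)⁻¹ (u a' b') := by
  obtain ⟨s, rfl⟩ := exists_eq_u_nm ha b
  obtain ⟨s', rfl⟩ := exists_eq_u_nm ha' b'
  by_cases hs : s + s' ∈ RR F
  · exact Or.inl (isConj_u_u ha ha' hs)
  · rw [u_inv_nm]
    exact Or.inr (isConj_u_u ha ha' (by rw [add_right_comm, add_one_mem_RR_iff]; exact hs))

theorem exists_ff_eq (τ : F) : ∃ a b : F, a ≠ 0 ∧ ff a b + θ a = τ := by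
  obtain ⟨σ, hσ⟩ := exists_quad_not_mem_RR τ
  have h0 : σ ≠ 0 := by rintro rfl; simp at hσ
  obtain ⟨t, ht⟩ := add_one_mem_RR_iff.mpr hσ
  have ht' : t + θ t = τ * (σ ^ 2 * θ σ) + σ ^ 2 + 1 := ht
  have h1 := θ_ne_zero h0
  refine ⟨σ⁻¹, σ⁻¹ * θ σ⁻¹ * t, inv_ne_zero h0, ?_⟩
  simp only [ff, θ_mul, θ_inv, θ_θ]
  field_simp
  grind

theorem tr_sq (g : G F m) : tr (g * g) = tr g ^ 2 := by
  simp only [tr, mat_mul, Matrix.trace, Matrix.diag, Matrix.mul_apply, Fin.sum_univ_four]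
  grind

theorem tr_w_u_w_u (a b c d : F) : tr (w * u c d * w * u a b : G F m) =
    ff a b * ff c d + θ a * θ c + b * (c * θ c) + a * θ a * d := by
  simp only [tr, mat_mul, mat_u, mat_w, Matrix.trace, Matrix.diag, Matrix.mul_apply,
    Fin.sum_univ_four]
  simp [uM, wM]
  grind

end Cfsg.Agent.Suz
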